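import Mathlib
import Groth.Agent.UnitProd.SmoothReduced

set_option autoImplicit false
universe u
open CategoryTheory Limits AlgebraicGeometry

namespace Groth.Agent.TrivSec

/-- Smooth morphisms have geometrically reduced fibres. -/
theorem geometricallyReduced_of_smooth {X S : Scheme.{u}} (f : X ⟶ S) [Smooth f] :
    GeometricallyReduced f :=
  ⟨fun K _ y Z fst snd h => by
    haveI : Smooth snd := MorphismProperty.of_isPullback (P := @Smooth) h inferInstance
    exact UnitProd.isReduced_left_of_smooth snd⟩

end Groth.Agent.TrivSec
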