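import Mathlib

/-!
# Functions as morphisms to the affine line
-/

set_option autoImplicit false
universe u
open CategoryTheory Limits AlgebraicGeometry

namespace Groth.Agent.TrivSec

/-- `ℤ[t]` in universe `u`. -/
noncomputable abbrev LineRing : CommRingCat.{u} := CommRingCat.of (Polynomial (ULift.{u} ℤ))

/-- The affine line over `ℤ`. -/
noncomputable abbrev line : Scheme.{u} := Spec LineRing.{u}

/-- The ring map `ℤ[t] ⟶ R` with value `r`. -/
noncomputable def evalAt {R : CommRingCat.{u}} (r : R) : LineRing.{u} ⟶ R :=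
  CommRingCat.ofHom (Polynomial.eval₂RingHom ((Int.castRingHom R).comp ULift.ringEquiv.toRingHom) r)

lemma evalAt_X {R : CommRingCat.{u}} (r : R) : (evalAt r).hom Polynomial.X = r := by
  simp [evalAt]

lemma hom_ext_X {R : CommRingCat.{u}} {f g : LineRing.{u} ⟶ R}
    (h : f.hom Polynomial.X = g.hom Polynomial.X) : f = g := by
  ext x
  · exact RingHom.congr_fun (RingHom.ext_int (f.hom.comp (Polynomial.C.comp ULift.ringEquiv.symm.toRingHom))
      (g.hom.comp (Polynomial.C.comp ULift.ringEquiv.symm.toRingHom))) x.down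
  · exact h

lemma eq_evalAt {R : CommRingCat.{u}} (f : LineRing.{u} ⟶ R) : f = evalAt (f.hom Polynomial.X) :=
  hom_ext_X (evalAt_X _).symm

lemma evalAt_comp {R R' : CommRingCat.{u}} (r : R) (φ : R ⟶ R') :
    evalAt r ≫ φ = evalAt (φ.hom r) := by
  apply hom_ext_X
  rw [evalAt_X, CommRingCat.comp_apply, evalAt_X]

/-- The function attached to a morphism to the affine line. -/
noncomputable def val {X : Scheme.{u}} (f : X ⟶ line.{u}) : Γ(X, ⊤) :=
  ((Scheme.ΓSpecIso LineRing.{u}).inv ≫ f.appTop).hom Polynomial.X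

/-- The morphism to the affine line attached to a function. -/
noncomputable def toLine {X : Scheme.{u}} (a : Γ(X, ⊤)) : X ⟶ line.{u} :=
  X.toSpecΓ ≫ Spec.map (evalAt a)

lemma val_comp {X Y : Scheme.{u}} (h : X ⟶ Y) (f : Y ⟶ line.{u}) :
    val (h ≫ f) = h.appTop.hom (val f) := by
  rw [val, val, Scheme.Hom.comp_appTop, ← Category.assoc]
  rfl

lemma val_toLine {X : Scheme.{u}} (a : Γ(X, ⊤)) : val (toLine a) = a := by
  rw [val, toLine, Scheme.Hom.comp_appTop, Scheme.toSpecΓ_appTop]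
  have : (Scheme.ΓSpecIso LineRing.{u}).inv ≫ (Spec.map (evalAt a)).appTop ≫
      (Scheme.ΓSpecIso Γ(X, ⊤)).hom = evalAt a := by simp
  rw [this, evalAt_X]

lemma hom_ext_val {X : Scheme.{u}} {f g : X ⟶ line.{u}} (h : val f = val g) : f = g := by
  refine ext_of_isAffine ?_
  rw [← cancel_epi (Scheme.ΓSpecIso LineRing.{u}).inv]
  exact hom_ext_X h

lemma SpecMap_evalAt_ext {R : CommRingCat.{u}} (f : Spec R ⟶ line.{u}) :
    ∃ r : R, f = Spec.map (evalAt r) :=
  ⟨(Spec.preimage f).hom Polynomial.X, by rw [← eq_evalAt, Spec.map_preimage]⟩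

lemma SpecMap_evalAt_inj {R : CommRingCat.{u}} {r r' : R}
    (h : Spec.map (evalAt r) = Spec.map (evalAt r')) : r = r' := by
  rw [← evalAt_X r, Spec.map_injective h, evalAt_X]

/-- Descent of functions along flat surjective morphisms locally of finite presentation. -/
lemma exists_descent_line {W X : Scheme.{u}} (p : W ⟶ X) [Flat p] [Surjective p]
    [LocallyOfFinitePresentation p] (f : W ⟶ line.{u})
    (h : pullback.fst p p ≫ f = pullback.snd p p ≫ f) : ∃ g : X ⟶ line.{u}, p ≫ g = f := by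
  have hd : ∀ {Z : Scheme.{u}} (g₁ g₂ : Z ⟶ W), g₁ ≫ p = g₂ ≫ p → g₁ ≫ f = g₂ ≫ f := by
    intro Z g₁ g₂ he
    calc g₁ ≫ f = pullback.lift g₁ g₂ he ≫ pullback.fst p p ≫ f := by rw [pullback.lift_fst_assoc]
      _ = g₂ ≫ f := by rw [h, pullback.lift_snd_assoc]
  exact ⟨EffectiveEpi.desc p f hd, EffectiveEpi.fac p f hd⟩

end Groth.Agent.TrivSec

namespace Groth.Agent.TrivSec

lemma val_SpecMap_evalAt {R : CommRingCat.{u}} (r : R) :
    val (Spec.map (evalAt r)) = (Scheme.ΓSpecIso R).inv.hom r := by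
  rw [val, ← Scheme.ΓSpecIso_inv_naturality, CommRingCat.comp_apply, evalAt_X]

lemma comp_SpecMap_evalAt {R R' : CommRingCat.{u}} (r : R) (φ : R ⟶ R') :
    Spec.map φ ≫ Spec.map (evalAt r) = Spec.map (evalAt (φ.hom r)) := by
  rw [← Spec.map_comp, evalAt_comp]

end Groth.Agent.TrivSec
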