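import Mathlib
import Groth.Agent.FlatDescent.Global

/-!
# Functions vanishing on a section: the algebraic core

`exists_mul_eq_zero`: over a local ring `A`, let `u, v : B → C` be algebra maps, `C` flat and finitely
presented, `σ : B → A`. If, modulo the maximal ideal, the equaliser of `u, v` meets the kernel of `σ`
trivially, then an element of the equaliser killed by `σ` vanishes near the closed fibre.
-/

set_option autoImplicit false
universe u
open MvPolynomial IsLocalRing Groth.FlatDescent

namespace Groth.Agent.TrivSec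

lemma map_aeval_map {A0 A : Type u} [CommRing A0] [CommRing A] (φ : A0 →+* A) {ι κ : Type}
    (p : ι → MvPolynomial κ A0) (h : MvPolynomial ι A0) :
    map φ (aeval p h) = aeval (fun i => map φ (p i)) (map φ h) := by
  induction h using MvPolynomial.induction_on with
  | C a => simp [← algebraMap_eq]
  | add f g hf hg => simp only [map_add, hf, hg]
  | mul_X f i hf => simp only [map_mul, hf, aeval_X, map_X]

lemma aeval_map' {A0 A : Type u} [CommRing A0] [CommRing A] (φ : A0 →+* A) {ι : Type}
    (s : ι → A0) (h : MvPolynomial ι A0) :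
    φ (aeval s h) = aeval (fun i => φ (s i)) (map φ h) := by
  induction h using MvPolynomial.induction_on with
  | C a => simp
  | add f g hf hg => simp only [map_add, hf, hg]
  | mul_X f i hf => simp only [map_mul, hf, aeval_X, map_X]

/-- Ideals of polynomial rings over fields are contracted along field extensions. -/
lemma mem_of_map_mem {k₀ k : Type u} [Field k₀] [Field k] (j : k₀ →+* k) {n : ℕ}
    (I : Ideal (MvPolynomial (Fin n) k₀)) {β : MvPolynomial (Fin n) k₀}
    (h : map j β ∈ I.map (map j)) : β ∈ I := by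
  letI := j.toAlgebra
  obtain ⟨ρ, hρ⟩ := (Algebra.linearMap k₀ k).exists_leftInverse_of_injective
    (LinearMap.ker_eq_bot.mpr j.injective)
  have hρ' : ∀ a, ρ (j a) = a := fun a => LinearMap.congr_fun hρ a
  classical
  let R : MvPolynomial (Fin n) k → MvPolynomial (Fin n) k₀ := fun f =>
    ∑ d ∈ f.support, monomial d (ρ (coeff d f))
  have hR : ∀ f e, coeff e (R f) = ρ (coeff e f) := by
    intro f e
    simp only [R, coeff_sum, coeff_monomial, Finset.sum_ite_eq', mem_support_iff, ne_eq]
    split_ifs with h0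
    · rw [h0, map_zero]
    · rfl
  have key : ∀ x ∈ Submodule.span k (map j '' (I : Set (MvPolynomial (Fin n) k₀))),
      ∀ c : k, R (c • x) ∈ I := by
    intro x hx
    induction hx using Submodule.span_induction with
    | mem x hx =>
      obtain ⟨y, hy, rfl⟩ := hx
      intro c
      have : R (c • map j y) = ρ c • y := by
        ext e
        rw [hR, coeff_smul, coeff_smul, coeff_map, smul_eq_mul, smul_eq_mul, mul_comm,
          show j (coeff e y) * c = coeff e y • c from rfl, map_smul, smul_eq_mul, mul_comm]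
      rw [this]
      exact Submodule.smul_of_tower_mem I _ hy
    | zero =>
      intro c
      have : R (c • 0) = 0 := by ext e; simp [hR]
      rw [this]; exact zero_mem _
    | add a b _ _ ha hb =>
      intro c
      have : R (c • (a + b)) = R (c • a) + R (c • b) := by ext e; simp [hR, mul_add]
      rw [this]; exact add_mem (ha c) (hb c)
    | smul r a _ ha => intro c; rw [smul_smul]; exact ha _
  have h1 := key _ (mem_span_of_mem_map j I h) 1
  have : R ((1 : k) • map j β) = β := by
    ext e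
    rw [hR, one_smul, coeff_map, hρ']
  rwa [this] at h1

/-- Minimal generators have relations in the maximal ideal. -/
lemma exists_minimal_generators {A : Type u} [CommRing A] [IsLocalRing A] {J : Ideal A} (hJ : J.FG) :
    ∃ (k : ℕ) (c : Fin k → A), Ideal.span (Set.range c) = J ∧
      ∀ r : Fin k → A, ∑ i, c i * r i = 0 → ∀ i, r i ∈ maximalIdeal A := by
  classical
  have hex : ∃ k : ℕ, ∃ c : Fin k → A, Ideal.span (Set.range c) = J :=
    Submodule.fg_iff_exists_fin_generating_family.mp hJ
  obtain ⟨c, hc⟩ := Nat.find_spec hex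
  refine ⟨_, c, hc, fun r hr i => ?_⟩
  by_contra hi
  obtain ⟨ri, hri⟩ := (notMem_maximalIdeal.mp hi).exists_left_inv
  generalize hk : Nat.find hex = k at c r i
  obtain ⟨k', rfl⟩ : ∃ k', k = k' + 1 := ⟨k - 1, by have := i.pos; omega⟩
  refine Nat.find_min hex (m := k') (by omega) ⟨fun l => c (i.succAbove l), le_antisymm ?_ ?_⟩
  · rw [← hc, Ideal.span_le]
    rintro _ ⟨l, rfl⟩
    exact Ideal.subset_span ⟨_, rfl⟩
  · rw [← hc, Ideal.span_le]
    rintro _ ⟨l, rfl⟩
    by_cases hl : l = i
    · subst hl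
      rw [Fin.sum_univ_succAbove _ l] at hr
      have : c l = -∑ m, ri * (r (l.succAbove m)) * c (l.succAbove m) := by
        have h2 : c l * r l = -∑ m, c (l.succAbove m) * r (l.succAbove m) := eq_neg_of_add_eq_zero_left hr
        calc c l = c l * r l * ri := by rw [mul_assoc, mul_comm (r l), hri, mul_one]
          _ = _ := by
            rw [h2, neg_mul, Finset.sum_mul]
            congr 1
            exact Finset.sum_congr rfl fun m _ => by ring
      rw [this]
      exact neg_mem (sum_mem fun m _ => Ideal.mul_mem_left _ _ (Ideal.subset_span ⟨m, rfl⟩))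
    · obtain ⟨m, rfl⟩ := Fin.exists_succAbove_eq hl
      exact Ideal.subset_span ⟨m, rfl⟩


/-- An element of `𝔪₀ (P/N₀)` maps into `𝔪 D`. -/
lemma image_mem_of_mem_smul {A0 A D : Type u} [CommRing A0] [IsLocalRing A0] [CommRing A]
    [IsLocalRing A] (φ : A0 →+* A) [IsLocalHom φ] [CommRing D] [Algebra A D] {n' : ℕ}
    (πC : MvPolynomial (Fin n') A →ₐ[A] D)
    (N0 : Submodule (MvPolynomial (Fin n') A0) (Unit → MvPolynomial (Fin n') A0))
    (hN0 : ∀ y ∈ N0, πC (map φ (y ())) = 0) {z : (Unit → MvPolynomial (Fin n') A0) ⧸ N0}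
    (hz : z ∈ maximalIdeal A0 • (⊤ : Submodule A0 ((Unit → MvPolynomial (Fin n') A0) ⧸ N0)))
    (d : Unit → MvPolynomial (Fin n') A0) (hd : Submodule.Quotient.mk d = z) :
    πC (map φ (d ())) ∈ (maximalIdeal A).map (algebraMap A D) := by
  induction hz using Submodule.smul_induction_on' generalizing d with
  | smul r hr m _ =>
    obtain ⟨e, rfl⟩ := Submodule.Quotient.mk_surjective N0 m
    have h1 := hN0 _ ((Submodule.Quotient.eq N0).mp (hd.trans (Submodule.Quotient.mk_smul N0 r e).symm))
    rw [Pi.sub_apply, map_sub, map_sub, sub_eq_zero] at h1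
    rw [h1, Pi.smul_apply, Algebra.smul_def, map_mul, map_mul, algebraMap_eq, map_C,
      show πC (MvPolynomial.C (φ r)) = algebraMap A D (φ r) from πC.commutes (φ r)]
    exact Ideal.mul_mem_right _ _ (Ideal.mem_map_of_mem _ (map_nonunit φ r hr))
  | add a _ b _ ha hb =>
    obtain ⟨e, rfl⟩ := Submodule.Quotient.mk_surjective N0 a
    have h2 := add_mem (ha e rfl) (hb (d - e) (by rw [Submodule.Quotient.mk_sub, hd, add_sub_cancel_left]))
    rw [← map_add, ← map_add, Pi.sub_apply, add_sub_cancel] at h2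
    exact h2

/-- Contraction of `ker + 𝔪` to the Noetherian model. -/
lemma mem_sup_of_image_mem {A0 A B : Type u} [CommRing A0] [IsLocalRing A0] [CommRing A]
    [IsLocalRing A] (φ : A0 →+* A) [IsLocalHom φ] [CommRing B] [Algebra A B] {n : ℕ}
    (πB : MvPolynomial (Fin n) A →ₐ[A] B) (hπB : Function.Surjective πB)
    (T0 : Set (MvPolynomial (Fin n) A0))
    (hgen : ∀ h, πB h = 0 → map (residue A) h ∈ Ideal.span (map ((residue A).comp φ) '' T0))
    (β : MvPolynomial (Fin n) A0)
    (h4 : πB (map φ β) ∈ (maximalIdeal A).map (algebraMap A B)) :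
    β ∈ Ideal.span T0 ⊔ (maximalIdeal A0).map (MvPolynomial.C : A0 →+* MvPolynomial (Fin n) A0) := by
  have hmap : (maximalIdeal A).map (algebraMap A B) =
      ((maximalIdeal A).map (MvPolynomial.C : A →+* MvPolynomial (Fin n) A)).map πB.toRingHom := by
    rw [Ideal.map_map]
    congr 1
    exact πB.comp_algebraMap.symm
  rw [hmap] at h4
  obtain ⟨z, hz, hzeq⟩ := (Ideal.mem_map_iff_of_surjective πB.toRingHom hπB).mp h4
  have h5 := hgen (map φ β - z) (by rw [map_sub, show πB z = πB (map φ β) from hzeq, sub_self])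
  have hz0 : map (residue A) z = 0 := by
    rw [← RingHom.mem_ker, MvPolynomial.ker_map, ker_residue]
    exact hz
  rw [map_sub, hz0, sub_zero, map_map] at h5
  let j := ResidueField.map φ
  have hj : (residue A).comp φ = j.comp (residue A0) := rfl
  rw [hj, ← map_map, ← Set.image_congr (fun t _ => map_map (residue A0) j t),
    ← Set.image_image (map j) (map (residue A0)), ← Ideal.map_span] at h5
  have h6 := mem_of_map_mem j _ h5
  rw [← Ideal.map_span] at h6
  obtain ⟨h, hh, heq⟩ := (Ideal.mem_map_iff_of_surjective _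
    (map_surjective _ residue_surjective)).mp h6
  refine Submodule.mem_sup.mpr ⟨h, hh, β - h, ?_, add_sub_cancel h β⟩
  rw [← ker_residue (R := A0), ← MvPolynomial.ker_map, RingHom.mem_ker, map_sub, heq, sub_self]

/-- Krull's intersection theorem in the Noetherian model. -/
lemma exists_mul_eq_zero_of_forall_mem {A0 A B : Type u} [CommRing A0] [IsNoetherianRing A0]
    [IsLocalRing A0] [CommRing A] [IsLocalRing A] (φ : A0 →+* A) [IsLocalHom φ] [CommRing B]
    [Algebra A B] {n : ℕ} (πB : MvPolynomial (Fin n) A →ₐ[A] B)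
    (T0 : Set (MvPolynomial (Fin n) A0)) (hT : ∀ t ∈ T0, πB (map φ t) = 0)
    (α0 : MvPolynomial (Fin n) A0)
    (hpow : ∀ m : ℕ, α0 ∈ Ideal.span T0 ⊔
      (maximalIdeal A0 ^ m).map (MvPolynomial.C : A0 →+* MvPolynomial (Fin n) A0))
    (Q : Ideal B) [Q.IsPrime] (hQ : (maximalIdeal A).map (algebraMap A B) ≤ Q) :
    ∃ s ∉ Q, s * πB (map φ α0) = 0 := by
  let H0 := Ideal.span T0
  let R := MvPolynomial (Fin n) A0 ⧸ H0
  let I : Ideal R := (maximalIdeal A0).map ((Ideal.Quotient.mk H0).comp MvPolynomial.C)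
  have hmem : Ideal.Quotient.mk H0 α0 ∈ (⨅ i : ℕ, I ^ i • ⊤ : Submodule R R) := by
    rw [Submodule.mem_iInf]
    intro m
    rw [smul_eq_mul, Ideal.mul_top, show I ^ m = _ from (Ideal.map_pow _ _ m).symm, ← Ideal.map_map]
    obtain ⟨h, hh, z, hz, hsum⟩ := Submodule.mem_sup.mp (hpow m)
    rw [← hsum, map_add, Ideal.Quotient.eq_zero_iff_mem.mpr hh, zero_add]
    exact Ideal.mem_map_of_mem _ hz
  obtain ⟨⟨r, hr⟩, hr'⟩ := (Ideal.mem_iInf_smul_pow_eq_bot_iff I _).mp hmem
  have hker : H0 ≤ RingHom.ker (πB.toRingHom.comp (map φ)) := Ideal.span_le.mpr fun t ht => hT t ht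
  let Ψ : R →+* B := Ideal.Quotient.lift H0 (πB.toRingHom.comp (map φ)) fun h hh => hker hh
  refine ⟨1 - Ψ r, fun (hmemQ : 1 - Ψ r ∈ Q) => ?_, ?_⟩
  · have hrQ : Ψ r ∈ Q := by
      refine hQ ?_
      have : I.map Ψ ≤ (maximalIdeal A).map (algebraMap A B) := by
        rw [Ideal.map_map, Ideal.map_le_iff_le_comap]
        intro x hx
        show πB (map φ (MvPolynomial.C x)) ∈ (maximalIdeal A).map (algebraMap A B)
        rw [map_C, show πB (MvPolynomial.C (φ x)) = algebraMap A B (φ x) from πB.commutes (φ x)]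
        exact Ideal.mem_map_of_mem _ (map_nonunit φ x hx)
      exact this (Ideal.mem_map_of_mem Ψ hr)
    exact (Ideal.IsPrime.ne_top inferInstance) ((Ideal.eq_top_iff_one Q).mpr
      (by simpa using add_mem hmemQ hrQ))
  · rw [sub_mul, one_mul, show πB (map φ α0) = Ψ (Ideal.Quotient.mk H0 α0) from rfl, ← map_mul,
      ← smul_eq_mul, show r • _ = Ideal.Quotient.mk H0 α0 from hr', sub_self]

/-- The core statement over a Noetherian model. -/
theorem core {A0 A : Type u} [CommRing A0] [IsNoetherianRing A0] [IsLocalRing A0] [CommRing A]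
    [IsLocalRing A] (φ : A0 →+* A) [IsLocalHom φ] {B D : Type u} [CommRing B] [CommRing D]
    [Algebra A B] [Algebra A D] {n n' : ℕ}
    (πB : MvPolynomial (Fin n) A →ₐ[A] B) (hπB : Function.Surjective πB)
    (πC : MvPolynomial (Fin n') A →ₐ[A] D)
    (u v : B →ₐ[A] D) (σ : B →ₐ[A] A)
    (hH : ∀ b, u b - v b ∈ (maximalIdeal A).map (algebraMap A D) → σ b ∈ maximalIdeal A →
      b ∈ (maximalIdeal A).map (algebraMap A B))
    (N0 : Submodule (MvPolynomial (Fin n') A0) (Unit → MvPolynomial (Fin n') A0))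
    [Module.Flat A0 ((Unit → MvPolynomial (Fin n') A0) ⧸ N0)]
    (hN0 : ∀ y ∈ N0, πC (map φ (y ())) = 0)
    (T0 : Set (MvPolynomial (Fin n) A0)) (hT : ∀ t ∈ T0, πB (map φ t) = 0)
    (hgen : ∀ h, πB h = 0 →
      map (residue A) h ∈ Ideal.span (map ((residue A).comp φ) '' T0))
    (p0 q0 : Fin n → MvPolynomial (Fin n') A0) (hp : ∀ i, πC (map φ (p0 i)) = u (πB (X i)))
    (hq : ∀ i, πC (map φ (q0 i)) = v (πB (X i)))
    (s0 : Fin n → A0) (hs : ∀ i, φ (s0 i) = σ (πB (X i)))
    (hTp : ∀ t ∈ T0, (fun _ : Unit => aeval p0 t) ∈ N0)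
    (hTq : ∀ t ∈ T0, (fun _ : Unit => aeval q0 t) ∈ N0)
    (hTs : ∀ t ∈ T0, aeval s0 t = 0)
    (α0 : MvPolynomial (Fin n) A0) (hα : (fun _ : Unit => aeval p0 α0 - aeval q0 α0) ∈ N0)
    (hαs : aeval s0 α0 = 0) (Q : Ideal B) [Q.IsPrime]
    (hQ : (maximalIdeal A).map (algebraMap A B) ≤ Q) :
    ∃ s ∉ Q, s * πB (map φ α0) = 0 := by
  classical
  have hu : ∀ β, πC (map φ (aeval p0 β)) = u (πB (map φ β)) := by
    intro β
    rw [map_aeval_map]
    exact AlgHom.congr_fun (show πC.comp (aeval fun i => map φ (p0 i)) = u.comp πB from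
      MvPolynomial.algHom_ext fun i => by simp [hp]) (map φ β)
  have hv : ∀ β, πC (map φ (aeval q0 β)) = v (πB (map φ β)) := by
    intro β
    rw [map_aeval_map]
    exact AlgHom.congr_fun (show πC.comp (aeval fun i => map φ (q0 i)) = v.comp πB from
      MvPolynomial.algHom_ext fun i => by simp [hq]) (map φ β)
  have hσ : ∀ β, φ (aeval s0 β) = σ (πB (map φ β)) := by
    intro β
    rw [aeval_map']
    exact AlgHom.congr_fun (show (aeval fun i => φ (s0 i)) = σ.comp πB from
      MvPolynomial.algHom_ext fun i => by simp [hs]) (map φ β)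
  let H0 := Ideal.span T0
  let δ : MvPolynomial (Fin n) A0 →ₗ[A0] (Unit → MvPolynomial (Fin n') A0) :=
    LinearMap.pi fun _ => (aeval p0).toLinearMap - (aeval q0).toLinearMap
  let U : MvPolynomial (Fin n) A0 →ₗ[A0] ((Unit → MvPolynomial (Fin n') A0) ⧸ N0) :=
    (N0.mkQ.restrictScalars A0).comp δ
  have hU0 : ∀ h ∈ H0, U h = 0 := by
    intro h hh
    have : (fun _ : Unit => aeval p0 h) ∈ N0 ∧ (fun _ : Unit => aeval q0 h) ∈ N0 := by
      induction hh using Submodule.span_induction with
      | mem t ht => exact ⟨hTp t ht, hTq t ht⟩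
      | zero => simp only [map_zero]; exact ⟨zero_mem _, zero_mem _⟩
      | add a b _ _ ha hb => simp only [map_add]; exact ⟨add_mem ha.1 hb.1, add_mem ha.2 hb.2⟩
      | smul c a _ ha =>
        simp only [smul_eq_mul, map_mul]
        exact ⟨N0.smul_mem (aeval p0 c) ha.1, N0.smul_mem (aeval q0 c) ha.2⟩
    exact (Submodule.Quotient.mk_eq_zero _).mpr (sub_mem this.1 this.2)
  have hs0 : ∀ h ∈ H0, aeval s0 h = 0 := fun h hh =>
    Ideal.span_le.mpr (fun t ht => hTs t ht) hh
      |> fun (h' : h ∈ RingHom.ker (aeval s0).toRingHom) => h'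
  have hstep : ∀ β, U β ∈ maximalIdeal A0 • (⊤ : Submodule A0 _) → aeval s0 β ∈ maximalIdeal A0 →
      β ∈ H0 ⊔ (maximalIdeal A0).map (MvPolynomial.C : A0 →+* MvPolynomial (Fin n) A0) := by
    intro β h1 h2
    refine mem_sup_of_image_mem φ πB hπB T0 hgen β (hH _ ?_ ?_)
    · rw [← hu, ← hv, ← map_sub, ← map_sub]
      exact image_mem_of_mem_smul φ πC N0 hN0 h1 (δ β) rfl
    · rw [← hσ]
      exact map_nonunit φ _ h2
  -- all powers
  have hpow : ∀ m : ℕ, α0 ∈ H0 ⊔ (maximalIdeal A0 ^ m).map (C : A0 →+* MvPolynomial (Fin n) A0) := by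
    intro m
    induction m with
    | zero =>
      rw [pow_zero, Ideal.one_eq_top, Ideal.map_top, sup_top_eq]
      exact Submodule.mem_top
    | succ m ih =>
      obtain ⟨h, hh, z, hz, hsum⟩ := Submodule.mem_sup.mp ih
      obtain ⟨k, c, hc, hmin⟩ := exists_minimal_generators
        (IsNoetherian.noetherian (maximalIdeal A0 ^ m))
      rw [← hc, Ideal.map_span, ← Set.range_comp] at hz
      obtain ⟨β, hβ⟩ := Ideal.mem_span_range_iff_exists_fun.mp hz
      have hz' : z = ∑ i, c i • β i := by
        rw [← hβ]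
        exact Finset.sum_congr rfl fun i _ => by
          rw [Function.comp_apply, Algebra.smul_def, algebraMap_eq, mul_comm]
      have hUz : ∑ i, c i • U (β i) = 0 := by
        rw [← (Finset.sum_congr rfl fun i _ => U.map_smul (c i) (β i)), ← map_sum, ← hz']
        have : U α0 = 0 := (Submodule.Quotient.mk_eq_zero _).mpr hα
        rw [← hsum, map_add, hU0 h hh, zero_add] at this
        exact this
      have hsz : ∑ i, c i * aeval s0 (β i) = 0 := by
        have : aeval s0 z = 0 := by
          rw [← hsum, map_add, hs0 h hh, zero_add] at hαs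
          exact hαs
        rw [hz', map_sum] at this
        simpa [smul_eq_mul] using this
      obtain ⟨l, a, y, hxy, hrel⟩ := Module.Flat.isTrivialRelation_of_sum_smul_eq_zero hUz
      have hβ' : ∀ i, β i ∈ H0 ⊔ (maximalIdeal A0).map (C : A0 →+* MvPolynomial (Fin n) A0) := by
        intro i
        refine hstep _ ?_ (hmin _ hsz i)
        rw [show U (β i) = _ from hxy i]
        exact sum_mem fun j _ => Submodule.smul_mem_smul (hmin _ (hrel j) i) Submodule.mem_top
      rw [← hsum, hz']
      refine add_mem (Ideal.mem_sup_left hh) (sum_mem fun i _ => ?_)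
      obtain ⟨e, he, f, hf, hef⟩ := Submodule.mem_sup.mp (hβ' i)
      rw [← hef, Algebra.smul_def, algebraMap_eq, mul_add]
      refine add_mem (Ideal.mem_sup_left (Ideal.mul_mem_left _ _ he)) (Ideal.mem_sup_right ?_)
      rw [pow_succ, Ideal.map_mul]
      exact Ideal.mul_mem_mul (Ideal.mem_map_of_mem _ (hc.le (Ideal.subset_span ⟨i, rfl⟩))) hf
  exact exists_mul_eq_zero_of_forall_mem φ πB T0 hT α0 hpow Q hQ

end Groth.Agent.TrivSec
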