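import Mathlib
import Groth.Agent.TrivSec.Core

/-!
# Descent to a Noetherian model
-/

set_option autoImplicit false
universe u
open MvPolynomial IsLocalRing Groth.FlatDescent

namespace Groth.Agent.TrivSec

lemma exists_map_eq_of_coeffs {R : Type u} [CommRing R] (A₀ : Subalgebra ℤ R) {σ : Type}
    (x : MvPolynomial σ R) (h : (x.coeffs : Set R) ⊆ A₀) :
    ∃ x₁ : MvPolynomial σ A₀, map A₀.val.toRingHom x₁ = x :=
  mem_range_map_iff_coeffs_subset.mpr fun r hr => ⟨⟨r, h hr⟩, rfl⟩

/-- Finitely many polynomials in `K` generating the residues of `K`. -/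
lemma exists_finset_gen_residue {A : Type u} [CommRing A] [IsLocalRing A] {n : ℕ}
    (K : Ideal (MvPolynomial (Fin n) A)) :
    ∃ T : Finset (MvPolynomial (Fin n) A), (∀ t ∈ T, t ∈ K) ∧
      ∀ h ∈ K, map (residue A) h ∈ Ideal.span (map (residue A) '' (T : Set _)) := by
  classical
  have hr := MvPolynomial.map_surjective (σ := Fin n) (residue A) residue_surjective
  obtain ⟨F, hF⟩ := (IsNoetherian.noetherian (K.map (map (residue A))))
  have : ∀ x ∈ F, ∃ t ∈ K, map (residue A) t = x := fun x hx =>
    (Ideal.mem_map_iff_of_surjective _ hr).mp (hF.le (Submodule.subset_span hx))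
  choose! lift hlK hleq using this
  refine ⟨F.image lift, fun t ht => ?_, fun h hh => ?_⟩
  · obtain ⟨x, hx, rfl⟩ := Finset.mem_image.mp ht
    exact hlK x hx
  · have : Ideal.span (map (residue A) '' ((F.image lift : Finset _) : Set _)) =
        K.map (map (residue A)) := by
      rw [← hF, Finset.coe_image, ← Set.image_comp]
      show Ideal.span _ = Ideal.span _
      congr 1
      exact (Set.image_congr fun x hx => hleq x hx).trans (Set.image_id _)
    rw [this]
    exact Ideal.mem_map_of_mem _ hh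

set_option maxHeartbeats 400000 in
/-- Over a local ring `A`: if, modulo the maximal ideal, the equaliser of `u, v : B → C` (`C` flat and
finitely presented) meets the kernel of `σ : B → A` trivially, then an element of the equaliser killed
by `σ` is zero near every prime of the closed fibre. -/
theorem exists_mul_eq_zero {A B D : Type u} [CommRing A] [IsLocalRing A] [CommRing B] [CommRing D]
    [Algebra A B] [Algebra A D] [Algebra.FiniteType A B] [Algebra.FinitePresentation A D]
    [Module.Flat A D] (u v : B →ₐ[A] D) (σ : B →ₐ[A] A)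
    (hH : ∀ b, u b - v b ∈ (maximalIdeal A).map (algebraMap A D) → σ b ∈ maximalIdeal A →
      b ∈ (maximalIdeal A).map (algebraMap A B))
    {a : B} (hu : u a = v a) (hσ : σ a = 0) (Q : Ideal B) [Q.IsPrime]
    (hQ : (maximalIdeal A).map (algebraMap A B) ≤ Q) : ∃ s ∉ Q, s * a = 0 := by
  classical
  obtain ⟨n, πB, hπB⟩ := Algebra.FiniteType.iff_quotient_mvPolynomial''.mp ‹Algebra.FiniteType A B›
  obtain ⟨n', πC, hπC, hker⟩ := Algebra.FinitePresentation.out (R := A) (A := D)
  choose p hp using fun i => hπC (u (πB (X i)))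
  choose q hq using fun i => hπC (v (πB (X i)))
  let s : Fin n → A := fun i => σ (πB (X i))
  obtain ⟨α, hα⟩ := hπB a
  obtain ⟨T, hTK, hTgen⟩ := exists_finset_gen_residue (RingHom.ker πB.toRingHom)
  -- the relations of `D`
  let N : Submodule (MvPolynomial (Fin n') A) (Unit → MvPolynomial (Fin n') A) :=
    Submodule.comap (LinearMap.proj () : (Unit → MvPolynomial (Fin n') A) →ₗ[MvPolynomial (Fin n') A]
      MvPolynomial (Fin n') A) (RingHom.ker πC.toRingHom)
  have hNmem : ∀ y, y ∈ N ↔ πC (y ()) = 0 := fun y => Iff.rfl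
  have hN : N.FG := by
    let e := LinearEquiv.funUnique Unit (MvPolynomial (Fin n') A) (MvPolynomial (Fin n') A)
    have hmap : Submodule.map e.symm.toLinearMap (RingHom.ker πC.toRingHom) = N := by
      rw [Submodule.map_equiv_eq_comap_symm]
      rfl
    rw [← hmap]
    exact Submodule.FG.map _ hker
  haveI : Module.Flat A ((Unit → MvPolynomial (Fin n') A) ⧸ N) := by
    let f : (Unit → MvPolynomial (Fin n') A) →ₗ[A] D := πC.toLinearMap.comp (LinearMap.proj ())
    have hf : Function.Surjective f := fun x => ⟨fun _ => (hπC x).choose, (hπC x).choose_spec⟩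
    have hk : N.restrictScalars A = LinearMap.ker f := Submodule.ext fun y => Iff.rfl
    exact Module.Flat.of_linearEquiv (((Submodule.Quotient.restrictScalarsEquiv A N).symm.trans
      (Submodule.quotEquivOfEq _ _ hk)).trans (f.quotKerEquivOfSurjective hf))
  -- coefficients
  let coef : Finset A := α.coeffs ∪ Finset.univ.biUnion (fun i => (p i).coeffs) ∪
    Finset.univ.biUnion (fun i => (q i).coeffs) ∪ Finset.univ.image s ∪ T.biUnion (fun t => t.coeffs)
  let A00 : Subalgebra ℤ A := Algebra.adjoin ℤ (coef : Set A)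
  obtain ⟨A1, hA1, hle, N1, hN1, hflat⟩ := exists_flat_model hN A00 (Subalgebra.fg_adjoin_finset _)
  have hmemA : ∀ x ∈ coef, x ∈ A1 := fun x hx => hle (Algebra.subset_adjoin hx)
  choose p1 hp1 using fun i => exists_map_eq_of_coeffs A1 (p i) fun r hr => hmemA r (by
    simp only [coef, Finset.mem_union, Finset.mem_biUnion, Finset.mem_univ, true_and]
    exact Or.inl (Or.inl (Or.inl (Or.inr ⟨i, hr⟩))))
  choose q1 hq1 using fun i => exists_map_eq_of_coeffs A1 (q i) fun r hr => hmemA r (by
    simp only [coef, Finset.mem_union, Finset.mem_biUnion, Finset.mem_univ, true_and]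
    exact Or.inl (Or.inl (Or.inr ⟨i, hr⟩)))
  let s1 : Fin n → A1 := fun i => ⟨s i, hmemA _ (by
    simp only [coef, Finset.mem_union, Finset.mem_image, Finset.mem_univ, true_and]
    exact Or.inl (Or.inr ⟨i, rfl⟩))⟩
  obtain ⟨α1, hα1⟩ := exists_map_eq_of_coeffs A1 α fun r hr => hmemA r (by
    simp only [coef, Finset.mem_union]
    exact Or.inl (Or.inl (Or.inl (Or.inl hr))))
  choose lift hlift using fun t : T => exists_map_eq_of_coeffs A1 t.1 fun r hr => hmemA r (by
    simp only [coef, Finset.mem_union, Finset.mem_biUnion]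
    exact Or.inr ⟨t.1, t.2, hr⟩)
  let T1 : Finset (MvPolynomial (Fin n) A1) := Finset.univ.image lift
  have hT1 : ∀ t ∈ T1, πB (map A1.val.toRingHom t) = 0 := by
    intro t ht
    obtain ⟨x, -, rfl⟩ := Finset.mem_image.mp ht
    rw [hlift]
    exact hTK _ x.2
  -- the evaluation identities
  have hU : ∀ h, πC (map A1.val.toRingHom (aeval p1 h)) = u (πB (map A1.val.toRingHom h)) := fun h => by
    rw [map_aeval_map]
    exact AlgHom.congr_fun (show πC.comp (aeval fun i => map A1.val.toRingHom (p1 i)) = u.comp πB from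
      MvPolynomial.algHom_ext fun i => by
        rw [AlgHom.comp_apply, aeval_X]; exact (congrArg πC (hp1 i)).trans (hp i)) _
  have hV : ∀ h, πC (map A1.val.toRingHom (aeval q1 h)) = v (πB (map A1.val.toRingHom h)) := fun h => by
    rw [map_aeval_map]
    exact AlgHom.congr_fun (show πC.comp (aeval fun i => map A1.val.toRingHom (q1 i)) = v.comp πB from
      MvPolynomial.algHom_ext fun i => by
        rw [AlgHom.comp_apply, aeval_X]; exact (congrArg πC (hq1 i)).trans (hq i)) _
  have hS : ∀ h, A1.val.toRingHom (aeval s1 h) = σ (πB (map A1.val.toRingHom h)) := fun h => by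
    rw [aeval_map']
    exact AlgHom.congr_fun (show (aeval fun i => A1.val.toRingHom (s1 i)) = σ.comp πB from
      MvPolynomial.algHom_ext fun i => by
        rw [aeval_X]; rfl) _
  -- membership of the relations
  let vecs : Finset (Unit → MvPolynomial (Fin n') A1) :=
    T1.image (fun t _ => aeval p1 t) ∪ T1.image (fun t _ => aeval q1 t) ∪
      {fun _ => aeval p1 α1 - aeval q1 α1}
  have hvecs : ∀ y ∈ vecs, mapF A1.val.toRingHom y ∈ baseN A1.val.toRingHom N1 := by
    intro y hy
    rw [hN1, hNmem, mapF_apply]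
    simp only [vecs, Finset.mem_union, Finset.mem_image, Finset.mem_singleton] at hy
    rcases hy with (⟨t, ht, rfl⟩ | ⟨t, ht, rfl⟩) | rfl
    · rw [hU, hT1 t ht, map_zero]
    · rw [hV, hT1 t ht, map_zero]
    · rw [map_sub, map_sub, hU, hV, hα1, hα, hu, sub_self]
  obtain ⟨A2, hA2, h12, hvecs2⟩ := exists_subalgebra_forall_mem hA1 N1 vecs hvecs
  haveI : Algebra.FiniteType ℤ A2 := ⟨A2.fg_top.mpr hA2⟩
  haveI : IsNoetherianRing A2 := Algebra.FiniteType.isNoetherianRing ℤ A2
  let P2 : Ideal A2 := (maximalIdeal A).comap A2.val.toRingHom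
  haveI : P2.IsPrime := Ideal.IsPrime.comap _
  let A0 := Localization.AtPrime P2
  haveI : IsNoetherianRing A0 := IsLocalization.isNoetherianRing P2.primeCompl A0 ‹_›
  have hunit : ∀ y : P2.primeCompl, IsUnit (A2.val.toRingHom y.1) := fun y =>
    notMem_maximalIdeal.mp y.2
  let φ : A0 →+* A := IsLocalization.lift hunit
  have hφ : ∀ x, φ (algebraMap A2 A0 x) = x.1 := fun x => IsLocalization.lift_eq hunit x
  have hφinj : Function.Injective φ := by
    rw [injective_iff_map_eq_zero]
    intro x hx
    obtain ⟨y, t, rfl⟩ := IsLocalization.exists_mk'_eq P2.primeCompl x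
    rw [IsLocalization.lift_mk'_spec, mul_zero] at hx
    rw [show y = 0 from Subtype.ext hx, IsLocalization.mk'_zero]
  haveI : IsLocalHom φ := by
    constructor
    intro x hx
    obtain ⟨y, t, rfl⟩ := IsLocalization.exists_mk'_eq P2.primeCompl x
    rw [IsLocalization.AtPrime.isUnit_mk'_iff A0 P2]
    intro hy
    refine (mem_maximalIdeal _).mp ?_ hx
    have h1 : φ (IsLocalization.mk' A0 y t) * t.1.1 = y.1 := by
      rw [← hφ t.1, ← map_mul, IsLocalization.mk'_spec, hφ]
    exact ((Ideal.IsPrime.mem_or_mem inferInstance (h1.symm ▸ hy : φ (IsLocalization.mk' A0 y t) * t.1.1 ∈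
      maximalIdeal A)).resolve_right t.2)
  let ι : A1 →+* A2 := (Subalgebra.inclusion h12).toRingHom
  let ψ : A1 →+* A0 := (algebraMap A2 A0).comp ι
  have hφψ : φ.comp ψ = A1.val.toRingHom := RingHom.ext fun x => hφ _
  let N0 := baseN ψ N1
  haveI : Module.Flat A0 ((Unit → MvPolynomial (Fin n') A0) ⧸ N0) := by
    haveI := hflat A2 hA2 h12
    refine flat_of_flatAt (P := MvPolynomial (Fin n') A0) fun Q _ => ?_
    show FlatCA.FlatAt A0 Q ((Unit → MvPolynomial (Fin n') A0) ⧸ baseN ((algebraMap A2 A0).comp ι) N1)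
    rw [← baseN_baseN]
    exact flatAt_baseN _ _ Q (flatAt_of_flat _)
  have hmapψ : ∀ {k : ℕ} (x : MvPolynomial (Fin k) A1), map φ (map ψ x) = map A1.val.toRingHom x :=
    fun x => by rw [map_map, hφψ]
  have hN0 : ∀ y ∈ N0, πC (map φ (y ())) = 0 := by
    intro y hy
    have := mapF_mem_baseN (φ := φ) hy
    rw [show baseN φ N0 = N by rw [baseN_baseN, hφψ, hN1]] at this
    exact this
  -- membership over `A0`
  have hup : ∀ y ∈ vecs, mapF ψ y ∈ N0 := by
    intro y hy
    have := mapF_mem_baseN (φ := algebraMap A2 A0) (hvecs2 y hy)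
    rwa [baseN_baseN, mapF_mapF] at this
  have hmain := core φ πB hπB πC u v σ hH N0 hN0
    (map ψ '' (T1 : Set (MvPolynomial (Fin n) A1))) ?_ ?_
    (fun i => map ψ (p1 i)) (fun i => map ψ (q1 i))
    (fun i => by rw [hmapψ, hp1, hp]) (fun i => by rw [hmapψ, hq1, hq])
    (fun i => ψ (s1 i)) (fun i => RingHom.congr_fun hφψ (s1 i)) ?_ ?_ ?_ (map ψ α1) ?_ ?_ Q hQ
  · rwa [hmapψ, hα1, hα] at hmain
  · rintro _ ⟨t, ht, rfl⟩
    rw [hmapψ]
    exact hT1 t ht
  · intro h hh
    refine Ideal.span_mono ?_ (hTgen h hh)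
    rintro _ ⟨t, ht, rfl⟩
    refine ⟨map ψ (lift ⟨t, ht⟩), ⟨_, Finset.mem_image_of_mem _ (Finset.mem_univ _), rfl⟩, ?_⟩
    rw [← map_map, hmapψ, hlift]
  · rintro _ ⟨t, ht, rfl⟩
    have := hup (fun _ => aeval p1 t) (Finset.mem_union_left _ (Finset.mem_union_left _
      (Finset.mem_image_of_mem _ ht)))
    convert this using 1
    funext _
    rw [mapF_apply, map_aeval_map]
  · rintro _ ⟨t, ht, rfl⟩
    have := hup (fun _ => aeval q1 t) (Finset.mem_union_left _ (Finset.mem_union_right _
      (Finset.mem_image_of_mem _ ht)))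
    convert this using 1
    funext _
    rw [mapF_apply, map_aeval_map]
  · rintro _ ⟨t, ht, rfl⟩
    rw [← aeval_map']
    have h0 : aeval s1 t = 0 := Subtype.val_injective (by
      show A1.val.toRingHom (aeval s1 t) = 0
      rw [hS, hT1 t ht, map_zero])
    rw [h0, map_zero]
  · have := hup (fun _ => aeval p1 α1 - aeval q1 α1) (Finset.mem_union_right _
      (Finset.mem_singleton_self _))
    convert this using 1
    funext _
    rw [mapF_apply, map_sub, map_aeval_map, map_aeval_map]
  · rw [← aeval_map']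
    have h0 : aeval s1 α1 = 0 := Subtype.val_injective (by
      show A1.val.toRingHom (aeval s1 α1) = 0
      rw [hS, hα1, hα, hσ])
    rw [h0, map_zero]

end Groth.Agent.TrivSec
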