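import Mathlib
import Groth.Agent.TrivSec.Fun
import Groth.Agent.TrivSec.Model

/-!
# Functions vanishing on a section, over a local base
-/

set_option autoImplicit false
universe u
open CategoryTheory Limits AlgebraicGeometry IsLocalRing

namespace Groth.Agent.TrivSec

/-- The stalk map of a flat morphism is injective. -/
lemma stalkMap_injective_of_flat {X Y : Scheme.{u}} (f : X ⟶ Y) [Flat f] (x : X) :
    Function.Injective (f.stalkMap x).hom := by
  letI := (f.stalkMap x).hom.toAlgebra
  haveI : Module.Flat (Y.presheaf.stalk (f x)) (X.presheaf.stalk x) :=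
    RingHom.flat_algebraMap_iff.mp (Flat.stalkMap f x)
  haveI : IsLocalHom (algebraMap (Y.presheaf.stalk (f x)) (X.presheaf.stalk x)) :=
    (inferInstance : IsLocalHom (f.stalkMap x).hom)
  haveI := Module.FaithfullyFlat.of_flat_of_isLocalHom
    (A := Y.presheaf.stalk (f x)) (B := X.presheaf.stalk x)
  exact FaithfulSMul.algebraMap_injective (Y.presheaf.stalk (f x)) (X.presheaf.stalk x)

/-- Germ of a global function of an affine scheme killed by an element outside the prime. -/
lemma germ_eq_zero_of_mul_eq_zero {R : CommRingCat.{u}} (w : Spec R) {s r : R}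
    (hs : s ∉ w.asIdeal) (h : s * r = 0) :
    (Spec R).presheaf.Γgerm w ((Scheme.ΓSpecIso R).inv.hom r) = 0 := by
  have hu : IsUnit ((Spec R).presheaf.Γgerm w ((Scheme.ΓSpecIso R).inv.hom s)) := by
    refine (Scheme.mem_basicOpen_top (Spec R) _ w).mp ?_
    rw [basicOpen_eq_of_affine]
    exact hs
  rw [← hu.mul_right_eq_zero, ← map_mul, ← map_mul, h, map_zero, map_zero]

set_option maxHeartbeats 800000 in
/-- Over a local base: a function on a flat separated quasi-compact finitely presented scheme whose closed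
fibre has only constant functions, vanishing on a section, is zero along the closed fibre. -/
theorem germ_eq_zero_of_local {A : CommRingCat.{u}} [IsLocalRing A] {X : Scheme.{u}} (g : X ⟶ Spec A)
    [Flat g] [LocallyOfFinitePresentation g] [QuasiCompact g] [IsSeparated g]
    (σ : Spec A ⟶ X) (hσ : σ ≫ g = 𝟙 _)
    (hfib : ∀ γ : pullback g (Spec.map (CommRingCat.ofHom (residue A))) ⟶ line.{u},
      ∃ δ, γ = pullback.snd _ _ ≫ δ)
    (a : X ⟶ line.{u}) (ha : σ ≫ a = Spec.map (evalAt (0 : A))) (x : X) (hx : g x = closedPoint A) :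
    X.presheaf.Γgerm x (val a) = 0 := by
  haveI : CompactSpace X := QuasiCompact.compactSpace_of_compactSpace g
  let 𝒰 := X.affineCover.finiteSubcover
  haveI : ∀ i, IsAffine (𝒰.X i) := fun i => by
    dsimp [𝒰, Scheme.OpenCover.finiteSubcover]; infer_instance
  let W := ∐ 𝒰.X
  let d : W ⟶ X := Sigma.desc 𝒰.f
  haveI : IsZariskiLocalAtSource (@LocallyOfFinitePresentation : MorphismProperty Scheme.{u}) :=
    HasRingHomProperty.instIsZariskiLocalAtSource
  haveI : Flat d := by dsimp [d]; infer_instance
  haveI : LocallyOfFinitePresentation d :=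
    IsZariskiLocalAtSource.sigmaDesc (P := (@LocallyOfFinitePresentation : MorphismProperty Scheme.{u})) fun i => inferInstance
  haveI : Surjective d := ⟨fun y => ⟨Sigma.ι 𝒰.X (𝒰.idx y) (𝒰.covers y).choose, by
    rw [← Scheme.Hom.comp_apply, Sigma.ι_desc]
    exact (𝒰.covers y).choose_spec⟩⟩
  let B : CommRingCat.{u} := Γ(W, ⊤)
  let p : Spec B ⟶ X := W.isoSpec.inv ≫ d
  let R0 := pullback p p
  haveI : IsAffine R0 := isAffine_of_isAffineHom (pullback.mapDesc p p g)
  let D : CommRingCat.{u} := Γ(R0, ⊤)
  let e := R0.isoSpec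
  let u0 : B ⟶ D := Spec.preimage (e.inv ≫ pullback.fst p p)
  let v0 : B ⟶ D := Spec.preimage (e.inv ≫ pullback.snd p p)
  have hu0 : Spec.map u0 = e.inv ≫ pullback.fst p p := Spec.map_preimage _
  have hv0 : Spec.map v0 = e.inv ≫ pullback.snd p p := Spec.map_preimage _
  let φB : A ⟶ B := Spec.preimage (p ≫ g)
  have hφB : Spec.map φB = p ≫ g := Spec.map_preimage _
  have huv : φB ≫ u0 = φB ≫ v0 := Spec.map_injective (by
    rw [Spec.map_comp, Spec.map_comp, hu0, hv0, hφB]
    simp only [Category.assoc, pullback.condition_assoc])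
  -- the section
  obtain ⟨w0, hw0⟩ := 𝒰.covers (σ (closedPoint A))
  have hrange : Set.range σ ⊆ Set.range (𝒰.f (𝒰.idx (σ (closedPoint A)))) := by
    rintro _ ⟨z, rfl⟩
    exact ((IsLocalRing.specializes_closedPoint z).map σ.continuous).mem_open
      (IsOpenImmersion.isOpen_range _) ⟨w0, hw0⟩
  let σ' : Spec A ⟶ Spec B :=
    IsOpenImmersion.lift (𝒰.f (𝒰.idx (σ (closedPoint A)))) σ hrange ≫ Sigma.ι 𝒰.X _ ≫ W.isoSpec.hom
  have hσ' : σ' ≫ p = σ := by simp [σ', p, d]
  let σB : B ⟶ A := Spec.preimage σ'
  have hσB : Spec.map σB = σ' := Spec.map_preimage _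
  have hφσ : φB ≫ σB = 𝟙 A := Spec.map_injective (by
    rw [Spec.map_comp, hσB, hφB, ← Category.assoc, hσ', hσ, Spec.map_id])
  -- the function
  obtain ⟨b, hb⟩ := SpecMap_evalAt_ext (p ≫ a)
  have hub : u0.hom b = v0.hom b := SpecMap_evalAt_inj (by
    rw [← comp_SpecMap_evalAt, ← comp_SpecMap_evalAt, hu0, hv0, Category.assoc, Category.assoc,
      ← hb, pullback.condition_assoc])
  have hσb : σB.hom b = 0 := SpecMap_evalAt_inj (by
    rw [← comp_SpecMap_evalAt, hσB, ← hb, ← Category.assoc, hσ', ha])
  -- algebra structures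
  algebraize [φB.hom]
  letI : Algebra A D := (φB ≫ u0).hom.toAlgebra
  let uA : B →ₐ[A] D := { u0.hom with commutes' := fun _ => rfl }
  let vA : B →ₐ[A] D := { v0.hom with commutes' := fun c => (RingHom.congr_fun
    (congrArg CommRingCat.Hom.hom huv) c).symm }
  let sA : B →ₐ[A] A := { σB.hom with
    commutes' := fun c => RingHom.congr_fun (congrArg CommRingCat.Hom.hom hφσ) c }
  haveI : Algebra.FiniteType A B := by
    have : LocallyOfFiniteType (Spec.map φB) := hφB ▸ inferInstance
    exact (HasRingHomProperty.Spec_iff (P := @LocallyOfFiniteType)).mp this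
  have hD : Spec.map (φB ≫ u0) = e.inv ≫ pullback.fst p p ≫ p ≫ g := by
    rw [Spec.map_comp, hu0, hφB, Category.assoc]
  haveI : Algebra.FinitePresentation A D := by
    have : LocallyOfFinitePresentation (Spec.map (φB ≫ u0)) := hD ▸ inferInstance
    exact (HasRingHomProperty.Spec_iff (P := @LocallyOfFinitePresentation)).mp this
  haveI : Module.Flat A D := by
    have : Flat (Spec.map (φB ≫ u0)) := hD ▸ inferInstance
    exact Flat.SpecMap_iff.mp this
  -- the hypothesis on the closed fibre
  have hH : ∀ b', uA b' - vA b' ∈ (maximalIdeal A).map (algebraMap A D) →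
      sA b' ∈ maximalIdeal A → b' ∈ (maximalIdeal A).map (algebraMap A B) := by
    intro b' h1 h2
    let kA : CommRingCat.{u} := CommRingCat.of (ResidueField A)
    let rA : A ⟶ kA := CommRingCat.ofHom (residue A)
    let r := Spec.map rA
    let f := pullback.snd (pullback.fst g r) p ≫ Spec.map (evalAt b')
    let pk := pullback.fst (pullback.fst g r) p
    have hdesc : pullback.fst pk pk ≫ f = pullback.snd pk pk ≫ f := by
      let t0 : pullback pk pk ⟶ R0 := pullback.lift
        (pullback.fst pk pk ≫ pullback.snd (pullback.fst g r) p)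
        (pullback.snd pk pk ≫ pullback.snd (pullback.fst g r) p)
        (by simp only [Category.assoc, ← pullback.condition, ← pullback.condition_assoc (f := pk)]
            rw [← Category.assoc, pullback.condition (f := pk), Category.assoc])
      have ht1 : t0 ≫ pullback.fst p p = pullback.fst pk pk ≫ pullback.snd (pullback.fst g r) p :=
        pullback.lift_fst _ _ _
      have ht2 : t0 ≫ pullback.snd p p = pullback.snd pk pk ≫ pullback.snd (pullback.fst g r) p :=
        pullback.lift_snd _ _ _
      let t : pullback pk pk ⟶ Spec D := t0 ≫ e.hom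
      have hfst : pullback.fst pk pk ≫ f = t ≫ Spec.map (evalAt (u0.hom b')) := by
        rw [← comp_SpecMap_evalAt, hu0]
        simp only [t, f, Category.assoc, Iso.hom_inv_id_assoc]
        rw [← Category.assoc t0, ht1, Category.assoc]
      have hsnd : pullback.snd pk pk ≫ f = t ≫ Spec.map (evalAt (v0.hom b')) := by
        rw [← comp_SpecMap_evalAt, hv0]
        simp only [t, f, Category.assoc, Iso.hom_inv_id_assoc]
        rw [← Category.assoc t0, ht2, Category.assoc]
      rw [hfst, hsnd]
      apply hom_ext_val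
      rw [val_comp, val_comp, val_SpecMap_evalAt, val_SpecMap_evalAt]
      let χ : D ⟶ Γ(pullback pk pk, ⊤) := (Scheme.ΓSpecIso D).inv ≫ t.appTop
      have hk : t ≫ Spec.map (φB ≫ u0) =
          (pullback.fst pk pk ≫ pk ≫ pullback.snd g r) ≫ r := by
        rw [hD]
        simp only [t, Category.assoc, Iso.hom_inv_id_assoc]
        rw [← Category.assoc t0, ht1, Category.assoc,
          ← pullback.condition_assoc (f := pullback.fst g r), pullback.condition (f := g)]
      have hχ : (φB ≫ u0) ≫ χ = rA ≫ (Scheme.ΓSpecIso kA).inv ≫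
          (pullback.fst pk pk ≫ pk ≫ pullback.snd g r).appTop := by
        have key : ∀ {R S : CommRingCat.{u}} {T : Scheme.{u}} (ψ : R ⟶ S) (z : T ⟶ Spec S),
            ψ ≫ (Scheme.ΓSpecIso S).inv ≫ z.appTop =
              (Scheme.ΓSpecIso R).inv ≫ (z ≫ Spec.map ψ).appTop := fun ψ z => by
          rw [Scheme.Hom.comp_appTop, ← Category.assoc, Scheme.ΓSpecIso_inv_naturality, Category.assoc]
        exact (key _ t).trans ((congrArg (fun z : pullback pk pk ⟶ Spec A =>
          (Scheme.ΓSpecIso A).inv ≫ z.appTop) hk).trans (key rA _).symm)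
      have hker : (maximalIdeal A).map (algebraMap A D) ≤ RingHom.ker χ.hom := by
        rw [Ideal.map_le_iff_le_comap]
        intro c hc
        refine RingHom.mem_ker.mpr ((RingHom.congr_fun (congrArg CommRingCat.Hom.hom hχ) c).trans ?_)
        rw [CommRingCat.hom_comp, RingHom.comp_apply,
          show rA.hom c = 0 from (residue_eq_zero_iff c).mpr hc, map_zero]
      have := RingHom.mem_ker.mp (hker h1)
      rw [map_sub, sub_eq_zero] at this
      exact this
    obtain ⟨γ, hγ⟩ := exists_descent_line pk f hdesc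
    obtain ⟨δ, hδ⟩ := hfib γ
    let σk : Spec kA ⟶ pullback g r := pullback.lift (r ≫ σ) (𝟙 _)
      (by rw [Category.assoc, hσ, Category.comp_id, Category.id_comp])
    have hk1 : σk ≫ pullback.fst g r = r ≫ σ := pullback.lift_fst _ _ _
    have hk2 : σk ≫ pullback.snd g r = 𝟙 _ := pullback.lift_snd _ _ _
    have hδ0 : δ = Spec.map (evalAt (0 : kA)) := by
      let σWk : Spec kA ⟶ pullback (pullback.fst g r) p :=
        pullback.lift σk (r ≫ σ') (by rw [hk1, Category.assoc, hσ'])
      have : σk ≫ γ = r ≫ σ' ≫ Spec.map (evalAt b') := by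
        rw [show σk = σWk ≫ pk from (pullback.lift_fst _ _ _).symm, Category.assoc, hγ,
          ← Category.assoc, ← Category.assoc r,
          show r ≫ σ' = σWk ≫ pullback.snd _ _ from (pullback.lift_snd _ _ _).symm]
      rw [hδ, ← Category.assoc, show σk ≫ pullback.snd g _ = 𝟙 _ from hk2, Category.id_comp, ← hσB, comp_SpecMap_evalAt,
        comp_SpecMap_evalAt] at this
      rw [this, show rA.hom (σB.hom b') = 0 from (residue_eq_zero_iff _).mpr h2]
    let mB := (maximalIdeal A).map (algebraMap A B)
    let qB : B ⟶ CommRingCat.of (B ⧸ mB) := CommRingCat.ofHom (Ideal.Quotient.mk mB)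
    let ρ : kA ⟶ CommRingCat.of (B ⧸ mB) :=
      CommRingCat.ofHom (Ideal.quotientMap mB (algebraMap A B) Ideal.le_comap_map)
    have hρ : rA ≫ ρ = φB ≫ qB := rfl
    let j : Spec (CommRingCat.of (B ⧸ mB)) ⟶ pullback (pullback.fst g r) p :=
      pullback.lift (pullback.lift (Spec.map qB ≫ p) (Spec.map ρ) (by
        rw [Category.assoc, ← hφB, ← Spec.map_comp, ← Spec.map_comp, hρ])) (Spec.map qB)
        (pullback.lift_fst _ _ _)
    have hj2 : j ≫ pullback.snd (pullback.fst g r) p = Spec.map qB := pullback.lift_snd _ _ _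
    have hj1 : (j ≫ pk) ≫ pullback.snd g r = Spec.map ρ := by
      rw [show j ≫ pk = _ from pullback.lift_fst _ _ _]
      exact pullback.lift_snd _ _ _
    have h3 : Spec.map qB ≫ Spec.map (evalAt b') = Spec.map ρ ≫ Spec.map (evalAt (0 : kA)) := by
      rw [← hδ0, ← hj2, Category.assoc,
        show pullback.snd (pullback.fst g r) p ≫ Spec.map (evalAt b') = pk ≫ γ from hγ.symm, ← hj1, hδ]
      simp only [Category.assoc]
      rfl
    rw [comp_SpecMap_evalAt, comp_SpecMap_evalAt, map_zero] at h3
    exact Ideal.Quotient.eq_zero_iff_mem.mp (SpecMap_evalAt_inj h3)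
  -- conclusion
  obtain ⟨w, hw⟩ := p.surjective x
  have hwm : (maximalIdeal A).map (algebraMap A B) ≤ w.asIdeal := by
    rw [Ideal.map_le_iff_le_comap]
    have : (Spec.map φB) w = closedPoint A := by rw [hφB, Scheme.Hom.comp_apply, hw, hx]
    exact (congrArg PrimeSpectrum.asIdeal this).ge
  haveI : w.asIdeal.IsPrime := w.isPrime
  obtain ⟨s, hs, hsb⟩ := exists_mul_eq_zero uA vA sA hH (a := b) hub hσb w.asIdeal hwm
  subst hw
  apply stalkMap_injective_of_flat p w
  rw [map_zero, show X.presheaf.Γgerm (p w) = X.presheaf.germ ⊤ (p w) trivial from rfl,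
    ← map_zero (ConcreteCategory.hom ((Spec B).presheaf.Γgerm w))]
  refine (Scheme.Hom.germ_stalkMap_apply p ⊤ w trivial (val a)).trans ?_
  rw [map_zero]
  show (Spec B).presheaf.Γgerm w (p.appTop.hom (val a)) = 0
  rw [← val_comp, hb, val_SpecMap_evalAt]
  exact germ_eq_zero_of_mul_eq_zero w hs hsb

end Groth.Agent.TrivSec
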