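import Mathlib
import Groth.Agent.TrivSec.Local
import Groth.Agent.RigidProd.Sections
import Groth.Agent.FlatDescent.Point

/-!
# Proper flat morphisms with geometrically connected and reduced fibres have only constant functions
-/

set_option autoImplicit false
universe u
open CategoryTheory Limits AlgebraicGeometry IsLocalRing

namespace Groth.Agent.TrivSec

variable {X S : Scheme.{u}}

/-- The fibre at `t` has only constant functions. -/
def TrivFibre (g : X ⟶ S) (t : S) : Prop :=
  ∀ γ : g.fiber t ⟶ line.{u}, ∃ δ : Spec (S.residueField t) ⟶ line.{u},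
    γ = g.fiberToSpecResidueField t ≫ δ

theorem germ_eq_zero (g : X ⟶ S) [Flat g] [LocallyOfFinitePresentation g] [QuasiCompact g]
    [IsSeparated g] (σ : S ⟶ X) (hσ : σ ≫ g = 𝟙 _) (t : S) (hfib : TrivFibre g t)
    (a : Γ(X, ⊤)) (ha : σ.appTop.hom a = 0) (x : X) (hx : g x = t) :
    X.presheaf.Γgerm x a = 0 := by
  let fs := S.fromSpecStalk t
  haveI : Flat fs := Groth.FlatDescent.flat_fromSpecStalk t
  let σA : Spec (S.presheaf.stalk t) ⟶ pullback g fs :=
    pullback.lift (fs ≫ σ) (𝟙 _) (by rw [Category.assoc, hσ, Category.comp_id, Category.id_comp])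
  have hfib' : ∀ γ : pullback (pullback.snd g fs)
      (Spec.map (CommRingCat.ofHom (residue (S.presheaf.stalk t)))) ⟶ line.{u},
      ∃ δ, γ = pullback.snd _ _ ≫ δ := by
    intro γ
    let e := pullbackLeftPullbackSndIso g fs (Spec.map (CommRingCat.ofHom (residue (S.presheaf.stalk t))))
    obtain ⟨δ, hδ⟩ := hfib (e.inv ≫ γ)
    refine ⟨δ, ?_⟩
    rw [← cancel_epi e.inv]
    exact (hδ.trans (congrArg (fun z => z ≫ δ) (pullbackLeftPullbackSndIso_inv_snd_snd g fs
      (Spec.map (CommRingCat.ofHom (residue (S.presheaf.stalk t))))).symm)).trans (Category.assoc _ _ _)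
  have hσa : σA ≫ pullback.fst g fs ≫ toLine a = Spec.map (evalAt (0 : S.presheaf.stalk t)) := by
    apply hom_ext_val
    rw [show σA ≫ pullback.fst g fs ≫ toLine a = fs ≫ σ ≫ toLine a from pullback.lift_fst_assoc _ _ _ _,
      val_comp, val_comp, val_toLine, ha, map_zero, val_SpecMap_evalAt, map_zero]
  obtain ⟨x', hx'1, hx'2⟩ := Scheme.Pullback.exists_preimage_pullback (f := g) (g := fs) x
    (closedPoint (S.presheaf.stalk t)) (by rw [hx, Scheme.fromSpecStalk_closedPoint])
  have h := germ_eq_zero_of_local (pullback.snd g fs) σA (pullback.lift_snd _ _ _) hfib'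
    (pullback.fst g fs ≫ toLine a) hσa x' hx'2
  subst hx'1
  apply stalkMap_injective_of_flat (pullback.fst g fs) x'
  rw [map_zero]
  refine (Scheme.Hom.germ_stalkMap_apply (pullback.fst g fs) ⊤ x' trivial a).trans ?_
  rw [val_comp, val_toLine] at h
  exact h

/-- A function vanishing on a section is zero. -/
theorem eq_zero_of_section (g : X ⟶ S) [Flat g] [LocallyOfFinitePresentation g] [QuasiCompact g]
    [IsSeparated g] (σ : S ⟶ X) (hσ : σ ≫ g = 𝟙 _) (hfib : ∀ t, TrivFibre g t)
    (a : Γ(X, ⊤)) (ha : σ.appTop.hom a = 0) : a = 0 := by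
  refine TopCat.Presheaf.section_ext X.sheaf ⊤ a 0 fun x hx => ?_
  rw [map_zero]
  exact germ_eq_zero g σ hσ (g x) (hfib _) a ha x rfl

theorem line_ext_of_section (g : X ⟶ S) [Flat g] [LocallyOfFinitePresentation g] [QuasiCompact g]
    [IsSeparated g] (σ : S ⟶ X) (hσ : σ ≫ g = 𝟙 _) (hfib : ∀ t, TrivFibre g t)
    (a₁ a₂ : X ⟶ line.{u}) (h : σ ≫ a₁ = σ ≫ a₂) : a₁ = a₂ := by
  refine hom_ext_val (sub_eq_zero.mp (eq_zero_of_section g σ hσ hfib _ ?_))
  rw [map_sub, ← val_comp, ← val_comp, h, sub_self]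

/-- Over a field: geometrically connected and reduced, universally closed, with a section. -/
theorem trivFibre_of_section (g : X ⟶ S) [UniversallyClosed g] [GeometricallyConnected g]
    [GeometricallyReduced g] (σ : S ⟶ X) (hσ : σ ≫ g = 𝟙 _) (t : S) : TrivFibre g t := by
  intro γ
  let F : Over (Spec (CommRingCat.of (S.residueField t))) :=
    Over.mk (g.fiberToSpecResidueField t)
  haveI : UniversallyClosed F.hom := by
    show UniversallyClosed (pullback.snd g (S.fromSpecResidueField t)); infer_instance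
  haveI : IsReduced F.left := (inferInstance : IsReduced (g.fiber t))
  haveI : ConnectedSpace F.left := (inferInstance : ConnectedSpace (g.fiber t))
  let x₀ : MonoidalCategoryStruct.tensorUnit (Over (Spec (CommRingCat.of (S.residueField t)))) ⟶ F :=
    Over.homMk (pullback.lift (S.fromSpecResidueField t ≫ σ) (𝟙 _)
      (by rw [Category.assoc, hσ, Category.comp_id, Category.id_comp]))
      (pullback.lift_snd _ _ _)
  obtain ⟨c, hc⟩ := (RigidProd.trivialSections_of_connected F x₀).2 (val γ)
  refine ⟨Spec.map (evalAt c), hom_ext_val ?_⟩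
  rw [val_comp, val_SpecMap_evalAt]
  exact hc.symm

variable (g : X ⟶ S) [IsProper g] [Flat g] [LocallyOfFinitePresentation g] [GeometricallyConnected g]
  [GeometricallyReduced g]

/-- Every function on `X` comes from `S`. -/
theorem exists_comp_eq (a : X ⟶ line.{u}) : ∃ δ, g ≫ δ = a := by
  haveI : UniversallyClosed (pullback.snd g g) := inferInstance
  refine exists_descent_line g a ?_
  exact line_ext_of_section (pullback.snd g g) (pullback.lift (𝟙 X) (𝟙 X) rfl) (pullback.lift_snd _ _ _)
    (trivFibre_of_section (pullback.snd g g) (pullback.lift (𝟙 X) (𝟙 X) rfl) (pullback.lift_snd _ _ _))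
    _ _ (by rw [pullback.lift_fst_assoc, pullback.lift_snd_assoc])

/-- `Γ(S) = Γ(X)`. -/
theorem bijective_appTop : Function.Bijective g.appTop.hom := by
  haveI : Epi g := Flat.epi_of_flat_of_surjective g
  refine ⟨fun b b' h => ?_, fun a => ?_⟩
  · have : toLine b = toLine b' := (cancel_epi g).mp (hom_ext_val (by
      rw [val_comp, val_comp, val_toLine, val_toLine, h]))
    rw [← val_toLine b, this, val_toLine]
  · obtain ⟨δ, hδ⟩ := exists_comp_eq g (toLine a)
    exact ⟨val δ, by rw [← val_comp, hδ, val_toLine]⟩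

/-- **`O_S = g_* O_X`**. -/
theorem bijective_app (U : S.Opens) : Function.Bijective (g.app U).hom := by
  have h1 : IsIso (g ∣_ U).appTop :=
    (ConcreteCategory.isIso_iff_bijective _).mpr (bijective_appTop (g ∣_ U))
  rw [morphismRestrict_appTop] at h1
  have h2 : IsIso (g.app (U.ι ''ᵁ ⊤)) :=
    @IsIso.of_isIso_comp_right _ _ _ _ _ _ _ (Functor.map_isIso X.presheaf _) h1
  rw [Scheme.Opens.ι_image_top] at h2
  exact ConcreteCategory.bijective_of_isIso (g.app U)

omit g in
/-- `O_S = g_* O_X` as a class. -/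
class TrivPush (g : X ⟶ S) : Prop where
  bij : ∀ U : S.Opens, Function.Bijective (g.app U).hom

instance (priority := 100) trivPush_of_geometricallyConnected : TrivPush g := ⟨bijective_app g⟩

end Groth.Agent.TrivSec

namespace Groth.Agent.TrivSec

variable {X S : Scheme.{u}} (g : X ⟶ S)

instance trivPush_restrict [TrivPush g] (W : S.Opens) : TrivPush (g ∣_ W) := ⟨fun A => by
  rw [morphismRestrict_app]
  haveI : IsIso (g.app (W.ι ''ᵁ A)) :=
    (ConcreteCategory.isIso_iff_bijective _).mpr (TrivPush.bij _)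
  haveI : IsIso (X.presheaf.map (eqToHom (image_morphismRestrict_preimage g W A)).op) :=
    Functor.map_isIso X.presheaf _
  exact ConcreteCategory.bijective_of_isIso
    (g.app (W.ι ''ᵁ A) ≫ X.presheaf.map (eqToHom (image_morphismRestrict_preimage g W A)).op)⟩

/-- Morphisms to an affine scheme factor through the base. -/
theorem exists_factor_of_isAffine [TrivPush g] {V : Scheme.{u}} [IsAffine V] (f : X ⟶ V) :
    ∃ k : S ⟶ V, g ≫ k = f := by
  haveI : IsIso g.appTop := (ConcreteCategory.isIso_iff_bijective _).mpr (TrivPush.bij ⊤)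
  refine ⟨S.toSpecΓ ≫ Spec.map (f.appTop ≫ inv g.appTop) ≫ V.isoSpec.inv, ext_of_isAffine ?_⟩
  have hk : (S.toSpecΓ ≫ Spec.map (f.appTop ≫ inv g.appTop) ≫ V.isoSpec.inv).appTop =
      f.appTop ≫ inv g.appTop := by
    rw [Scheme.Hom.comp_appTop, Scheme.Hom.comp_appTop, Scheme.toSpecΓ_appTop, Category.assoc,
      Scheme.ΓSpecIso_naturality, ← Category.assoc]
    simp [Scheme.isoSpec, Scheme.toSpecΓ_appTop]
  rw [Scheme.Hom.comp_appTop, hk, Category.assoc, IsIso.inv_hom_id, Category.comp_id]

end Groth.Agent.TrivSec
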