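import Mathlib
import Groth.Agent.TrivSec.Global

/-!
# The rigidity lemma over an arbitrary base
-/

set_option autoImplicit false
universe u
open CategoryTheory Limits AlgebraicGeometry TopologicalSpace

namespace Groth.Agent.TrivSec

variable {X T Y S : Scheme.{u}} (g : X ⟶ T) [IsProper g] [Flat g] [LocallyOfFinitePresentation g]
  [Surjective g] [TrivPush g] (f : X ⟶ Y)

/-- The points over which `f` collapses the fibre. -/
def collapsed : Set T := {t | (f '' (g ⁻¹' {t})).Subsingleton}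

/-- Near a collapsed point `f` factors through the base. -/
theorem exists_local_factor {t : T} (ht : t ∈ collapsed g f) :
    ∃ W : T.Opens, t ∈ W ∧ ∃ k : (W : Scheme.{u}) ⟶ Y, (g ⁻¹ᵁ W).ι ≫ f = (g ∣_ W) ≫ k := by
  obtain ⟨x, hx⟩ := g.surjective t
  obtain ⟨V, hV, hxV, -⟩ := exists_isAffineOpen_mem_and_subset (X := Y) (x := f x)
    (U := (⊤ : Y.Opens)) trivial
  let Z : Set X := (f ⁻¹ᵁ V : Set X)ᶜ
  have hZ : IsClosed (g '' Z) := g.isClosedMap _ (f ⁻¹ᵁ V).isOpen.isClosed_compl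
  let W : T.Opens := ⟨(g '' Z)ᶜ, hZ.isOpen_compl⟩
  refine ⟨W, ?_, ?_⟩
  · rintro ⟨z, hz, hzt⟩
    refine hz ?_
    show f z ∈ V
    rwa [ht (Set.mem_image_of_mem f hzt) (Set.mem_image_of_mem f hx)]
  · have hle : g ⁻¹ᵁ W ≤ f ⁻¹ᵁ V := fun z hz => by
      by_contra hn
      exact hz ⟨z, hn, rfl⟩
    haveI : IsAffine V.toScheme := hV
    obtain ⟨k, hk⟩ := exists_factor_of_isAffine (g ∣_ W) (X.homOfLE hle ≫ f ∣_ V)
    refine ⟨k ≫ V.ι, ?_⟩
    rw [← Category.assoc, hk, Category.assoc, morphismRestrict_ι, ← Category.assoc,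
      Scheme.homOfLE_ι]

omit [IsProper g] [Flat g] [LocallyOfFinitePresentation g] [Surjective g] [TrivPush g] in
lemma mem_collapsed_of_factor {W : T.Opens} (k : (W : Scheme.{u}) ⟶ Y)
    (hk : (g ⁻¹ᵁ W).ι ≫ f = (g ∣_ W) ≫ k) {t : T} (ht : t ∈ W) : t ∈ collapsed g f := by
  rintro _ ⟨x₁, h₁, rfl⟩ _ ⟨x₂, h₂, rfl⟩
  have key : ∀ x (hx : g x = t), f x = k ⟨t, ht⟩ := fun x hx => by
    have hxW : x ∈ g ⁻¹ᵁ W := show g x ∈ W from hx ▸ ht
    have := congrArg (fun h : (g ⁻¹ᵁ W : Scheme.{u}) ⟶ Y => h ⟨x, hxW⟩) hk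
    refine this.trans (congrArg k.base (Subtype.ext ?_))
    exact (morphismRestrict_base_coe g W ⟨x, hxW⟩).trans hx
  rw [key x₁ h₁, key x₂ h₂]

theorem isOpen_collapsed : IsOpen (collapsed g f) := by
  refine isOpen_iff_forall_mem_open.mpr fun t ht => ?_
  obtain ⟨W, htW, k, hk⟩ := exists_local_factor g f ht
  exact ⟨W, fun s hs => mem_collapsed_of_factor g f k hk hs, W.isOpen, htW⟩

/-- **Rigidity**: a morphism collapsing all fibres factors through the base. -/
theorem exists_factor (h : ∀ t, t ∈ collapsed g f) : ∃ k : T ⟶ Y, g ≫ k = f := by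
  have h1 : pullback.fst g g ≫ f = pullback.snd g g ≫ f := by
    choose W hW k hk using fun t => exists_local_factor g f (h t)
    let π := pullback.fst g g ≫ g
    refine (Scheme.openCoverOfIsOpenCover (pullback g g) (fun t => π ⁻¹ᵁ W t)
      ((TopologicalSpace.IsOpenCover.mk (top_le_iff.mp fun s _ =>
        Opens.mem_iSup.mpr ⟨s, hW s⟩) : IsOpenCover W).comap
          ⟨π, π.continuous⟩)).hom_ext _ _ fun t => ?_
    show (π ⁻¹ᵁ W t).ι ≫ _ = (π ⁻¹ᵁ W t).ι ≫ _
    let a : ((π ⁻¹ᵁ W t : (pullback g g).Opens) : Scheme.{u}) ⟶ (g ⁻¹ᵁ W t) :=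
      pullback.fst g g ∣_ (g ⁻¹ᵁ W t)
    have hb : π ⁻¹ᵁ W t = pullback.snd g g ⁻¹ᵁ (g ⁻¹ᵁ W t) := by
      rw [← Scheme.Hom.comp_preimage, ← pullback.condition]
    let b : ((π ⁻¹ᵁ W t : (pullback g g).Opens) : Scheme.{u}) ⟶ (g ⁻¹ᵁ W t) :=
      (pullback g g).homOfLE hb.le ≫ pullback.snd g g ∣_ (g ⁻¹ᵁ W t)
    have ha' : a ≫ (g ⁻¹ᵁ W t).ι = (π ⁻¹ᵁ W t).ι ≫ pullback.fst g g := morphismRestrict_ι _ _
    have hb' : b ≫ (g ⁻¹ᵁ W t).ι = (π ⁻¹ᵁ W t).ι ≫ pullback.snd g g := by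
      simp only [b, Category.assoc, morphismRestrict_ι, Scheme.homOfLE_ι_assoc]
    have hab : a ≫ g ∣_ W t = b ≫ g ∣_ W t := by
      rw [← cancel_mono (W t).ι]
      simp only [Category.assoc, morphismRestrict_ι]
      rw [← Category.assoc, ha', ← Category.assoc, hb', Category.assoc, Category.assoc,
        pullback.condition]
    rw [← Category.assoc, ← ha', ← Category.assoc, ← hb', Category.assoc, Category.assoc, hk t,
      ← Category.assoc, hab, Category.assoc]
  have hd : ∀ {Z : Scheme.{u}} (g₁ g₂ : Z ⟶ X), g₁ ≫ g = g₂ ≫ g → g₁ ≫ f = g₂ ≫ f := by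
    intro Z g₁ g₂ he
    calc g₁ ≫ f = pullback.lift g₁ g₂ he ≫ pullback.fst g g ≫ f := by rw [pullback.lift_fst_assoc]
      _ = g₂ ≫ f := by rw [h1, pullback.lift_snd_assoc]
  exact ⟨EffectiveEpi.desc g f hd, EffectiveEpi.fac g f hd⟩

/-- Rigidity over an open set of collapsed points. -/
theorem exists_factor_restrict (W : T.Opens) (hW : (W : Set T) ⊆ collapsed g f) :
    ∃ k : (W : Scheme.{u}) ⟶ Y, (g ⁻¹ᵁ W).ι ≫ f = (g ∣_ W) ≫ k := by
  haveI : Surjective (g ∣_ W) := IsZariskiLocalAtTarget.restrict ‹Surjective g› W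
  obtain ⟨k, hk⟩ := exists_factor (g ∣_ W) ((g ⁻¹ᵁ W).ι ≫ f) fun t => by
    rintro _ ⟨x₁, h₁, rfl⟩ _ ⟨x₂, h₂, rfl⟩
    have key : ∀ x : (g ⁻¹ᵁ W : Scheme.{u}), (g ∣_ W) x = t → g x.1 = t.1 := fun x hx =>
      (morphismRestrict_base_coe g W x).symm.trans (congrArg Subtype.val hx)
    exact hW t.2 ⟨x₁.1, key x₁ h₁, rfl⟩ ⟨x₂.1, key x₂ h₂, rfl⟩
  exact ⟨k, hk.symm⟩

/-- Over a separated target the collapsed points form a clopen set. -/
theorem isClosed_collapsed (p : T ⟶ S) (q : Y ⟶ S) [IsSeparated q] (hf : f ≫ q = g ≫ p) :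
    IsClosed (collapsed g f) := by
  let c : pullback g g ⟶ pullback q q := pullback.lift (pullback.fst g g ≫ f)
    (pullback.snd g g ≫ f) (by rw [Category.assoc, Category.assoc, hf, pullback.condition_assoc])
  let D : Set ↥(pullback g g) := c ⁻¹' (Set.range (pullback.diagonal q))
  have hD : IsClosed D :=
    (IsClosedImmersion.base_closed (f := pullback.diagonal q)).isClosed_range.preimage c.continuous
  have heq : (collapsed g f)ᶜ = (pullback.fst g g ≫ g) '' Dᶜ := by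
    refine Set.Subset.antisymm ?_ ?_
    · intro t ht
      simp only [collapsed, Set.mem_compl_iff, Set.mem_setOf_eq, Set.not_subsingleton_iff] at ht
      obtain ⟨_, ⟨x₁, h₁, rfl⟩, _, ⟨x₂, h₂, rfl⟩, hne⟩ := ht
      obtain ⟨z, hz1, hz2⟩ := Scheme.Pullback.exists_preimage_pullback x₁ x₂ (h₁.trans h₂.symm)
      refine ⟨z, fun ⟨y, hy⟩ => hne ?_, by rw [Scheme.Hom.comp_apply, hz1]; exact h₁⟩
      have e1 : pullback.fst q q (c z) = f x₁ := by
        rw [← Scheme.Hom.comp_apply, pullback.lift_fst, Scheme.Hom.comp_apply, hz1]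
      have e2 : pullback.snd q q (c z) = f x₂ := by
        rw [← Scheme.Hom.comp_apply, pullback.lift_snd, Scheme.Hom.comp_apply, hz2]
      show f x₁ = f x₂
      rw [← e1, ← e2, ← hy, ← Scheme.Hom.comp_apply, ← Scheme.Hom.comp_apply, pullback.diagonal_fst,
        pullback.diagonal_snd]
    · rintro _ ⟨z, hz, rfl⟩ ht
      obtain ⟨W, htW, k, hk⟩ := exists_local_factor g f ht
      refine hz ?_
      let U : (pullback g g).Opens := (pullback.fst g g ≫ g) ⁻¹ᵁ W
      have hu : ∀ π : pullback g g ⟶ X, π ≫ g = pullback.fst g g ≫ g →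
          U.ι ≫ π ≫ f = ((pullback.fst g g ≫ g) ∣_ W) ≫ k := by
        intro π hπ
        have hle : U ≤ π ⁻¹ᵁ (g ⁻¹ᵁ W) := by rw [← Scheme.Hom.comp_preimage, hπ]
        let a := (pullback g g).homOfLE hle ≫ π ∣_ (g ⁻¹ᵁ W)
        have ha : a ≫ (g ⁻¹ᵁ W).ι = U.ι ≫ π := by
          simp only [a, Category.assoc, morphismRestrict_ι, Scheme.homOfLE_ι_assoc]
        rw [← Category.assoc, ← ha, Category.assoc, hk, ← Category.assoc]
        congr 1
        rw [← cancel_mono W.ι, Category.assoc, morphismRestrict_ι, morphismRestrict_ι,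
          ← Category.assoc, ha, Category.assoc, hπ]
      have hfac : U.ι ≫ c = (U.ι ≫ pullback.fst g g ≫ f) ≫ pullback.diagonal q := by
        apply pullback.hom_ext
        · simp only [c, Category.assoc, pullback.lift_fst, pullback.diagonal_fst, Category.comp_id]
        · simp only [c, Category.assoc, pullback.lift_snd, pullback.diagonal_snd, Category.comp_id]
          rw [hu _ pullback.condition.symm, hu _ rfl]
      refine ⟨(U.ι ≫ pullback.fst g g ≫ f) (⟨z, htW⟩ : U.toScheme), ?_⟩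
      exact (congrArg (fun h : (U : Scheme.{u}) ⟶ pullback q q => h ⟨z, htW⟩) hfac).symm
  rw [← isOpen_compl_iff, heq]
  exact (pullback.fst g g ≫ g).isOpenMap _ hD.isOpen_compl

end Groth.Agent.TrivSec

namespace Groth.Agent.TrivSec

/-- Geometrically irreducible morphisms are geometrically connected. -/
theorem geometricallyConnected_of_irreducible {X S : Scheme.{u}} (f : X ⟶ S)
    [GeometricallyIrreducible f] : GeometricallyConnected f :=
  ⟨fun K _ y Z fst snd h => by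
    have : IrreducibleSpace Z :=
      GeometricallyIrreducible.geometrically_irreducibleSpace (f := f) y fst snd h
    exact { toPreconnectedSpace := inferInstance, toNonempty := inferInstance }⟩

end Groth.Agent.TrivSec
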