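import Mathlib
import Groth.Agent.TrivSec.Rigid
import Groth.Agent.RigidProd.Basic

/-!
# Rigidity for schemes over a base: decomposition of maps out of products
-/

set_option autoImplicit false
universe u
open CategoryTheory Limits AlgebraicGeometry MonoidalCategory CartesianMonoidalCategory MonObj

namespace Groth.Agent.TrivSec

variable {S : Scheme.{u}} {X T Y : Over S}

/-- A map constant on the slice through a section is pulled back from the second factor. -/
theorem eq_snd_comp [IsProper X.hom] [Flat X.hom] [LocallyOfFinitePresentation X.hom]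
    [GeometricallyConnected X.hom] [GeometricallyReduced X.hom] [GeometricallyConnected T.hom]
    [IsSeparated Y.hom] (e : 𝟙_ (Over S) ⟶ X) (o : 𝟙_ (Over S) ⟶ T) (d : X ⊗ T ⟶ Y)
    (y₀ : 𝟙_ (Over S) ⟶ Y) (hd : lift (𝟙 X) (toUnit X ≫ o) ≫ d = toUnit X ≫ y₀) :
    d = snd X T ≫ lift (toUnit T ≫ e) (𝟙 T) ≫ d := by
  haveI : IsProper (snd X T).left := by
    show IsProper (pullback.snd X.hom T.hom); infer_instance
  haveI : Flat (snd X T).left := by show Flat (pullback.snd X.hom T.hom); infer_instance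
  haveI : LocallyOfFinitePresentation (snd X T).left := by
    show LocallyOfFinitePresentation (pullback.snd X.hom T.hom); infer_instance
  haveI : GeometricallyConnected (snd X T).left := by
    show GeometricallyConnected (pullback.snd X.hom T.hom); infer_instance
  haveI : GeometricallyReduced (snd X T).left := by
    show GeometricallyReduced (pullback.snd X.hom T.hom); infer_instance
  let C := collapsed (snd X T).left d.left
  have hsec : ∀ s : S, o.left s ∈ C := by
    intro s
    have key : ∀ z : (X ⊗ T).left, (snd X T).left z = o.left s → d.left z = y₀.left s := by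
      intro z hz
      have hP := RigidProd.isPullback_whiskerLeft X o
      obtain ⟨w, hw1, hw2⟩ := Scheme.Pullback.exists_preimage_pullback
        (f := o.left) (g := (snd X T).left) s z hz.symm
      let w' : (X ⊗ 𝟙_ (Over S)).left := hP.isoPullback.inv w
      have h1 : (snd X (𝟙_ (Over S))).left w' = s := by
        rw [← Scheme.Hom.comp_apply, hP.isoPullback_inv_fst, hw1]
      have h2 : (X ◁ o).left w' = z := by
        rw [← Scheme.Hom.comp_apply, hP.isoPullback_inv_snd, hw2]
      have h3 : (X ◁ o) ≫ d = snd X (𝟙_ (Over S)) ≫ y₀ := by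
        have : X ◁ o = fst X (𝟙_ (Over S)) ≫ lift (𝟙 X) (toUnit X ≫ o) := by
          apply CartesianMonoidalCategory.hom_ext <;> simp
          rw [toUnit_unique (snd X (𝟙_ (Over S))) (toUnit _)]
        rw [this, Category.assoc, hd, ← Category.assoc, toUnit_unique (fst X _ ≫ toUnit X) (snd X _)]
      rw [← h2, ← Scheme.Hom.comp_apply, ← Over.comp_left, h3, Over.comp_left, Scheme.Hom.comp_apply, h1]
    rintro _ ⟨z₁, hz₁, rfl⟩ _ ⟨z₂, hz₂, rfl⟩
    rw [key z₁ hz₁, key z₂ hz₂]
  have hop : IsOpen C := isOpen_collapsed _ _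
  have hcl : IsClosed C := isClosed_collapsed _ _ T.hom Y.hom (by rw [Over.w d, Over.w (snd X T)])
  have huniv : ∀ t : T.left, t ∈ C := by
    intro t
    let s := T.hom t
    have hconn := T.hom.isConnected_preimage_singleton s
    have ho : o.left s ∈ T.hom ⁻¹' {s} := by
      show T.hom (o.left s) = s
      rw [← Scheme.Hom.comp_apply, Over.w o]
      rfl
    exact hconn.isPreconnected.subset_isClopen ⟨hcl, hop⟩ ⟨_, ho, hsec s⟩ rfl
  obtain ⟨k, hk⟩ := exists_factor (snd X T).left d.left huniv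
  have hke : k = (lift (toUnit T ≫ e) (𝟙 T) ≫ d).left := by
    rw [Over.comp_left, ← hk, ← Category.assoc, ← Over.comp_left, lift_snd, Over.id_left, Category.id_comp]
  apply Over.OverMorphism.ext
  rw [Over.comp_left, ← hke, hk]

/-- A map from a product to a separated group scheme is the product of its restrictions. -/
theorem eq_mul {C : Over S} [IsProper X.hom] [Flat X.hom] [LocallyOfFinitePresentation X.hom]
    [GeometricallyConnected X.hom] [GeometricallyReduced X.hom] [GeometricallyConnected T.hom]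
    [GrpObj C] [IsSeparated C.hom] (e : 𝟙_ (Over S) ⟶ X) (o : 𝟙_ (Over S) ⟶ T)
    (g : X ⊗ T ⟶ C) (hg : lift e o ≫ g = η[C]) :
    g = (fst X T ≫ lift (𝟙 X) (toUnit X ≫ o) ≫ g) * (snd X T ≫ lift (toUnit T ≫ e) (𝟙 T) ≫ g) := by
  let a := fst X T ≫ lift (𝟙 X) (toUnit X ≫ o) ≫ g
  let b := snd X T ≫ lift (toUnit T ≫ e) (𝟙 T) ≫ g
  have hg' : ∀ (Z : Over S) (t : Z ⟶ 𝟙_ _), lift (t ≫ e) (t ≫ o) ≫ g = (1 : Z ⟶ C) := fun Z t => by
    rw [← comp_lift, Category.assoc, hg, toUnit_unique t (toUnit Z)]
    rfl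
  have key := eq_snd_comp e o (a⁻¹ * g * b⁻¹) η[C] ?_
  · have h1 : lift (toUnit T ≫ e) (𝟙 T) ≫ (a⁻¹ * g * b⁻¹) = 1 := by
      simp only [comp_mul, GrpObj.comp_inv, a, b, lift_fst_assoc, lift_snd_assoc, Category.id_comp]
      rw [← Category.assoc (toUnit T ≫ e), comp_lift]
      simp [hg']
    rw [h1, comp_one, mul_inv_eq_one, inv_mul_eq_iff_eq_mul] at key
    exact key
  · simp only [comp_mul, GrpObj.comp_inv, a, b, lift_fst_assoc, lift_snd_assoc, Category.id_comp]
    rw [← Category.assoc (toUnit X ≫ o), comp_lift]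
    simp [hg', one_eq_one]

/-- A morphism of abelian schemes respecting units is a homomorphism. -/
theorem isMonHom_of_one [GrpObj X] [IsProper X.hom] [Flat X.hom] [LocallyOfFinitePresentation X.hom]
    [GeometricallyConnected X.hom] [GeometricallyReduced X.hom] [GrpObj Y] [IsSeparated Y.hom]
    (f : X ⟶ Y) (hf : η[X] ≫ f = η[Y]) : IsMonHom f := by
  have h := eq_mul η[X] η[X] (μ[X] ≫ f) (by
    rw [← Category.assoc, show lift η[X] η[X] ≫ μ[X] = η[X] * η[X] from rfl]
    rw [one_eq_one, _root_.one_mul, ← one_eq_one, hf])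
  have h1 : lift (𝟙 X) (toUnit X ≫ η[X]) ≫ μ[X] = 𝟙 X := by
    show (𝟙 X : X ⟶ X) * (toUnit X ≫ η[X]) = 𝟙 X
    exact mul_one _
  have h2 : lift (toUnit X ≫ η[X]) (𝟙 X) ≫ μ[X] = 𝟙 X := by
    show (toUnit X ≫ η[X]) * (𝟙 X : X ⟶ X) = 𝟙 X
    exact one_mul _
  rw [← Category.assoc _ μ[X], h1, ← Category.assoc _ μ[X], h2, Category.id_comp] at h
  refine ⟨hf, h.trans ?_⟩
  show lift (fst X X ≫ f) (snd X X ≫ f) ≫ μ[Y] = _
  congr 1

end Groth.Agent.TrivSec
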