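import Mathlib
import Groth.Agent.TrivSec.Rigid
import Groth.Agent.RigidProd.Basic

/-!
# Base change of the triviality of functions on fibres
-/

set_option autoImplicit false
universe u
open CategoryTheory Limits AlgebraicGeometry MonoidalCategory CartesianMonoidalCategory

namespace Groth.Agent.TrivSec

variable {X S T : Scheme.{u}}

theorem trivFibre_snd (g : X ⟶ S) [QuasiCompact g] [QuasiSeparated g] [Surjective g] (τ : T ⟶ S)
    (x : T) (h : TrivFibre g (τ x)) : TrivFibre (pullback.snd g τ) x := by
  intro γ
  let k : CommRingCat.{u} := S.residueField (τ x)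
  let F : Over (Spec (CommRingCat.of k)) := Over.mk (g.fiberToSpecResidueField (τ x))
  haveI : QuasiCompact F.hom := by
    show QuasiCompact (pullback.snd g (S.fromSpecResidueField (τ x))); infer_instance
  haveI : QuasiSeparated F.hom := by
    show QuasiSeparated (pullback.snd g (S.fromSpecResidueField (τ x))); infer_instance
  haveI : Nonempty F.left := by
    obtain ⟨z, hz⟩ := g.surjective (τ x)
    exact ⟨((g.fiberHomeo (τ x)).symm ⟨z, hz⟩)⟩
  have hF : RigidProd.TrivialSections F := by
    haveI : Nonempty ((⊤ : F.left.Opens) : Set F.left) := ⟨⟨Classical.arbitrary _, trivial⟩⟩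
    haveI : Nontrivial Γ(F.left, ⊤) := inferInstance
    refine ⟨((Scheme.ΓSpecIso (CommRingCat.of k)).inv ≫ F.hom.appTop).hom.injective, fun a => ?_⟩
    obtain ⟨δ, hδ⟩ := h (toLine a)
    obtain ⟨r, hr⟩ := SpecMap_evalAt_ext δ
    refine ⟨r, ?_⟩
    have := congrArg val hδ
    rw [val_toLine, hr, val_comp, val_SpecMap_evalAt] at this
    exact this.symm
  let T' : Over (Spec (CommRingCat.of k)) := Over.mk (Spec.map (τ.residueFieldMap x))
  haveI : IsAffine T'.left := by dsimp [T']; infer_instance
  haveI := RigidProd.isIso_appTop_snd hF T'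
  -- the fibre as a product
  have hb : T'.hom ≫ S.fromSpecResidueField (τ x) = T.fromSpecResidueField x ≫ τ :=
    Scheme.Hom.SpecMap_residueFieldMap_fromSpecResidueField τ x
  let a : (F ⊗ T').left ⟶ (pullback.snd g τ).fiber x :=
    pullback.lift
      (pullback.lift ((fst F T').left ≫ g.fiberι (τ x)) ((snd F T').left ≫ T.fromSpecResidueField x) (by
        rw [Category.assoc, Category.assoc, g.fiber_fac, ← hb, ← Category.assoc, ← Category.assoc]
        exact congrArg (· ≫ S.fromSpecResidueField (τ x))
          ((Over.w (fst F T')).trans (Over.w (snd F T')).symm)))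
      (snd F T').left (pullback.lift_snd _ _ _)
  have ha : a ≫ (pullback.snd g τ).fiberToSpecResidueField x = (snd F T').left := pullback.lift_snd _ _ _
  let b₁ : (pullback.snd g τ).fiber x ⟶ g.fiber (τ x) :=
    pullback.lift ((pullback.snd g τ).fiberι x ≫ pullback.fst g τ)
      ((pullback.snd g τ).fiberToSpecResidueField x ≫ T'.hom) (by
        rw [Category.assoc, Category.assoc, pullback.condition, ← Category.assoc,
          (pullback.snd g τ).fiber_fac, Category.assoc]
        erw [hb])
  let b : (pullback.snd g τ).fiber x ⟶ (F ⊗ T').left :=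
    pullback.lift b₁ ((pullback.snd g τ).fiberToSpecResidueField x) (pullback.lift_snd _ _ _)
  have hba : b ≫ a = 𝟙 _ := by
    have hb1 : b ≫ (fst F T').left = b₁ := pullback.lift_fst _ _ _
    have hb2 : b ≫ (snd F T').left = (pullback.snd g τ).fiberToSpecResidueField x :=
      pullback.lift_snd _ _ _
    have hb11 : b₁ ≫ g.fiberι (τ x) = (pullback.snd g τ).fiberι x ≫ pullback.fst g τ :=
      pullback.lift_fst _ _ _
    have ha1 : (a ≫ (pullback.snd g τ).fiberι x) ≫ pullback.fst g τ =
        (fst F T').left ≫ g.fiberι (τ x) :=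
      (congrArg (fun z => z ≫ pullback.fst g τ) (pullback.lift_fst _ _ _)).trans (pullback.lift_fst _ _ _)
    have ha2 : (a ≫ (pullback.snd g τ).fiberι x) ≫ pullback.snd g τ =
        (snd F T').left ≫ T.fromSpecResidueField x :=
      (congrArg (fun z => z ≫ pullback.snd g τ) (pullback.lift_fst _ _ _)).trans (pullback.lift_snd _ _ _)
    have e1 : (b ≫ a) ≫ (pullback.snd g τ).fiberι x = (pullback.snd g τ).fiberι x := by
      apply pullback.hom_ext
      · calc _ = b ≫ (a ≫ (pullback.snd g τ).fiberι x) ≫ pullback.fst g τ := by simp only [Category.assoc]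
          _ = b ≫ (fst F T').left ≫ g.fiberι (τ x) := congrArg (fun z => b ≫ z) ha1
          _ = b₁ ≫ g.fiberι (τ x) := (Category.assoc _ _ _).symm.trans (congrArg (fun z => z ≫ g.fiberι (τ x)) hb1)
          _ = _ := hb11
      · calc _ = b ≫ (a ≫ (pullback.snd g τ).fiberι x) ≫ pullback.snd g τ := by simp only [Category.assoc]
          _ = b ≫ (snd F T').left ≫ T.fromSpecResidueField x := congrArg (fun z => b ≫ z) ha2
          _ = (pullback.snd g τ).fiberToSpecResidueField x ≫ T.fromSpecResidueField x :=
            (Category.assoc _ _ _).symm.trans (congrArg (fun z => z ≫ T.fromSpecResidueField x) hb2)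
          _ = _ := ((pullback.snd g τ).fiber_fac x).symm
    refine pullback.hom_ext (e1.trans (Category.id_comp _).symm) (Eq.trans ?_ (Category.id_comp _).symm)
    exact (Category.assoc _ _ _).trans ((congrArg (fun z => b ≫ z) ha).trans hb2)
  let δ : T'.left ⟶ line.{u} := toLine ((inv (snd F T').left.appTop).hom (val (a ≫ γ)))
  have hδ : a ≫ γ = (snd F T').left ≫ δ := by
    apply hom_ext_val
    rw [val_comp (snd F T').left, val_toLine, ← CommRingCat.comp_apply, IsIso.inv_hom_id]
    rfl
  refine ⟨δ, ?_⟩
  calc γ = b ≫ a ≫ γ := by rw [← Category.assoc, hba, Category.id_comp]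
    _ = b ≫ (snd F T').left ≫ δ := by rw [hδ]
    _ = _ := by rw [← ha, ← Category.assoc, ← Category.assoc, hba, Category.id_comp]

end Groth.Agent.TrivSec

namespace Groth.Agent.TrivSec

variable {X S : Scheme.{u}}

theorem bijective_appTop_of_trivFibre (g : X ⟶ S) [IsProper g] [Flat g]
    [LocallyOfFinitePresentation g] [Surjective g] (h : ∀ t, TrivFibre g t) :
    Function.Bijective g.appTop.hom := by
  haveI : Epi g := Flat.epi_of_flat_of_surjective g
  refine ⟨fun b b' hb => ?_, fun a => ?_⟩
  · have : toLine b = toLine b' := (cancel_epi g).mp (hom_ext_val (by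
      rw [val_comp, val_comp, val_toLine, val_toLine, hb]))
    rw [← val_toLine b, this, val_toLine]
  · obtain ⟨δ, hδ⟩ := exists_descent_line g (toLine a)
      (line_ext_of_section (pullback.snd g g) (pullback.lift (𝟙 X) (𝟙 X) rfl) (pullback.lift_snd _ _ _)
        (fun x => trivFibre_snd g g x (h (g x))) _ _
        (by rw [pullback.lift_fst_assoc, pullback.lift_snd_assoc]))
    exact ⟨val δ, by rw [← val_comp, hδ, val_toLine]⟩

theorem trivPush_of_trivFibre (g : X ⟶ S) [IsProper g] [Flat g] [LocallyOfFinitePresentation g]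
    [Surjective g] (h : ∀ t, TrivFibre g t) : TrivPush g := ⟨fun U => by
  have hb := bijective_appTop_of_trivFibre (pullback.snd g U.ι) fun x => trivFibre_snd g U.ι x (h _)
  haveI : IsIso (pullback.snd g U.ι).appTop := (ConcreteCategory.isIso_iff_bijective _).mpr hb
  have he : g ∣_ U = (pullbackRestrictIsoRestrict g U).inv ≫ pullback.snd g U.ι := rfl
  have h1 : IsIso (g ∣_ U).appTop := by
    rw [he, Scheme.Hom.comp_appTop]
    haveI : IsIso (pullbackRestrictIsoRestrict g U).inv.appTop :=
      (inferInstance : IsIso (Scheme.Γ.map (pullbackRestrictIsoRestrict g U).inv.op))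
    exact IsIso.comp_isIso' ‹_› ‹_›
  rw [morphismRestrict_appTop] at h1
  have h2 : IsIso (g.app (U.ι ''ᵁ ⊤)) :=
    @IsIso.of_isIso_comp_right _ _ _ _ _ _ _ (Functor.map_isIso X.presheaf _) h1
  rw [Scheme.Opens.ι_image_top] at h2
  exact ConcreteCategory.bijective_of_isIso (g.app U)⟩

end Groth.Agent.TrivSec
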